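import Cfsg.Agent.Lib.Blocks.DefectOne.Quotient
import Cfsg.Agent.Lib.Blocks.Cyclo.Bounds
import Cfsg.Agent.Lib.Blocks.Union

/-!
# Brauer and Feit: the number of characters in a block of defect `d`

At most `p ^ d` for `d ≤ 2` and at most `p ^ (2 * d - 2)` in general.
-/

set_option autoImplicit false

universe u

namespace CfsgLib.DefectOne

open Cfsg CfsgLib.Blocks CfsgLib.Blocks.SubForm CfsgLib.Char CfsgLib.CharAction CfsgLib.CycloTrace
open scoped ComplexConjugate Classical

variable {G : Type*} [Group G] [Fintype G] {p : ℕ} [Fact p.Prime] {M : Ideal AlgInt} [M.IsPrime]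
  (hM : IsPModular p M)

omit [Fintype G] [Fact p.Prime] [M.IsPrime] in
theorem blockRank_le_card [Finite G] (B : Set (IrrCharacter G)) : blockRank p B ≤ Nat.card B := by
  have := Fintype.ofFinite (IrrCharacter G)
  refine (finrank_span_le_card _).trans ?_
  rw [Nat.card_coe_set_eq, Set.toFinset_card, ← Nat.card_eq_fintype_card, Nat.card_coe_set_eq]
  exact Set.ncard_image_le (Set.toFinite B)

include hM

/-- A block of defect zero is a single character. -/
theorem card_eq_one_of_defect_zero {B : Set (IrrCharacter G)} (hB : IsPBlock M B)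
    (hd : blockDefect p B = 0) : Nat.card B = 1 := by
  obtain ⟨χ, hχ⟩ := IsPBlock.nonempty hB
  have h0 : minDeg p B = (Nat.card G).factorization p := by
    have h := blockDefect_eq_sub p B
    have := minDeg_le_card (p := p) (B := B) ⟨χ, hχ⟩
    omega
  rw [IsPBlock.eq_blockOf hB hχ, blockOf_eq_singleton hM χ fun hdvd => ?_]
  · simp
  obtain ⟨q, hq⟩ := charDegree_dvd_card χ
  rw [hq, Nat.mul_div_cancel_left _ (charDegree_pos χ)] at hdvd
  have hq0 : q ≠ 0 := fun h => (Nat.card_pos (α := G)).ne' (by rw [hq, h, mul_zero])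
  have h1 : (Nat.card G).factorization p = degVal p (χ : G → ℂ) + q.factorization p := by
    rw [hq, Nat.factorization_mul (charDegree_pos χ).ne' hq0, Finsupp.add_apply]
  have h2 := minDeg_le (p := p) hχ
  have h3 := hM.1.factorization_pos_of_dvd hq0 hdvd
  omega

/-- For defect at most one the form is zero or at least the rank. -/
theorem rank_le_form_of_defect_le_one [Fintype (IrrCharacter G)] {B : Set (IrrCharacter G)}
    (hB : IsPBlock M B) (hd : blockDefect p B ≤ 1) (v : IrrCharacter G → ℤ) :
    form (formR p B) v = 0 ∨ max 1 (blockRank p B : ℤ) ≤ form (formR p B) v := by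
  rcases (by omega : blockDefect p B = 0 ∨ blockDefect p B = 1) with h | h
  · have h1 := blockRank_le_card (p := p) B
    rw [card_eq_one_of_defect_zero hM hB h] at h1
    rcases eq_or_ne (form (formR p B) v) 0 with h0 | h0
    · exact Or.inl h0
    · have := form_nonneg hM hB v
      exact Or.inr (max_le (by omega) (by omega))
  · rcases (card_le_and_form hM hB h).2 v with h0 | h0
    · exact Or.inl h0
    · rcases eq_or_ne (form (formR p B) v) 0 with h1 | h1
      · exact Or.inl h1
      · have := form_nonneg hM hB v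
        exact Or.inr (max_le (by omega) h0)

section Subsection

variable {y : G} {b : Set (IrrCharacter (Subgroup.centralizer ({y} : Set G)))}
  (hy : ∃ k : ℕ, orderOf y = p ^ k) {B : Set (IrrCharacter G)}
  (hind : IsInducedBlock M (Subgroup.centralizer ({y} : Set G)) b B)
include hy hind

/-- The least value of the form bounds the count of characters with nonvanishing entries. -/
theorem card_mul_le_of_min (A : Finset (IrrCharacter G)) (hA : ∀ χ ∈ A, χ ∈ B)
    (hne : ∀ χ ∈ A, ∃ ψ, entry p y b χ ψ ≠ 0) {μ : ℤ} (hμ : 0 ≤ μ)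
    [Fintype (IrrCharacter (Subgroup.centralizer ({y} : Set G)))]
    (hmin : ∀ v, form (formR p b) v ≠ 0 → μ ≤ form (formR p b) v) :
    (A.card : ℤ) * μ ≤ (p : ℤ) ^ blockDefect p b * blockRank p b := by
  have := Fintype.ofFinite (IrrCharacter G)
  obtain ⟨n, ζ, hζ, hyn⟩ := exists_root hM.1 hy
  obtain ⟨hb, hB, -⟩ := isInducedBlock_iff.1 hind
  choose f hf using fun (χ : IrrCharacter G)
    (η : IrrCharacter (Subgroup.centralizer ({y} : Set G))) => exists_coeff_vector hM hy hζ hyn χ η
  have hentry : ∀ χ ψ : IrrCharacter G, entry p y b χ ψ =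
      ∑ η, ∑ η', (formR p b η η' : ℂ) * (transCoeff y χ η * conj (transCoeff y ψ η')) := fun χ ψ => by
    simp only [entry_eq hM hb, colU, Finset.mul_sum]
    exact Finset.sum_congr rfl fun η _ => Finset.sum_congr rfl fun η' _ => by ring
  have hge : ∀ χ ∈ A, (μ : ℝ) ≤ avg ζ (p ^ (n + 1)) (entry p y b χ χ) := by
    intro χ hχ
    rcases avg_form hM.1 hζ (formR p b) (form_nonneg hM hb) (fun v h => form_eq_zero hM hb h) hμ hmin
      (f χ) with h | h
    · exfalso
      obtain ⟨ψ, hψ⟩ := hne χ hχ
      have h0 : entry p y b ψ χ = 0 := by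
        rw [entry_eq hM hb]
        refine Finset.sum_eq_zero fun η _ => ?_
        have h1 := congrArg conj (h η)
        simp only [map_sum, map_mul, map_intCast, map_zero, hf] at h1
        rw [colU, h1, mul_zero]
      exact hψ (by rw [← conj_entry, h0, map_zero])
    · simp only [hf] at h
      rw [hentry]
      exact_mod_cast h
  have hsub : A ⊆ (Set.toFinite B).toFinset := fun χ hχ => (Set.Finite.mem_toFinset _).2 (hA χ hχ)
  have h1 : (A.card : ℝ) * (μ : ℝ) ≤ (p : ℝ) ^ blockDefect p b * (blockRank p b : ℝ) := by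
    calc (A.card : ℝ) * (μ : ℝ) = ∑ _χ ∈ A, (μ : ℝ) := by rw [Finset.sum_const, nsmul_eq_mul]
      _ ≤ ∑ χ ∈ A, avg ζ (p ^ (n + 1)) (entry p y b χ χ) := Finset.sum_le_sum hge
      _ ≤ ∑ χ ∈ (Set.toFinite B).toFinset, avg ζ (p ^ (n + 1)) (entry p y b χ χ) :=
        Finset.sum_le_sum_of_subset_of_nonneg hsub fun χ hχ _ => by
          by_cases h : ∀ φ ∈ B, entry p y b χ φ = 0
          · rw [h χ ((Set.Finite.mem_toFinset _).1 hχ), avg]
            simp
          · push Not at h
            obtain ⟨φ, hφ, hne'⟩ := h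
            exact (avg_entry_self_pos hM hy hind hζ hyn hφ hne').le
      _ = _ := sum_avg_self hM hy hind hζ hyn
  exact_mod_cast h1

/-- Brauer and Feit's estimate from a major subsection of rank at most `L ^ 2`, `q = p ^ 2 * L`. -/
theorem card_le_of_rank_le_sq (hd : blockDefect p b = blockDefect p B) {L : ℕ}
    (hL : p ^ blockDefect p B = p ^ 2 * L) (hrank : blockRank p b ≤ L ^ 2) :
    Nat.card B ≤ p ^ blockDefect p B * L := by
  have := Fintype.ofFinite (IrrCharacter G)
  obtain ⟨n, ζ, hζ, hyn⟩ := exists_root hM.1 hy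
  obtain ⟨hb, hB, -⟩ := isInducedBlock_iff.1 hind
  set S := (Set.toFinite B).toFinset with hS
  set N := p ^ (n + 1)
  set S₀ := S.filter fun χ : IrrCharacter G => blockHeight p B (χ : G → ℂ) = 0 with hS₀
  have hmem : ∀ {χ}, χ ∈ S → χ ∈ B := fun hχ => (Set.Finite.mem_toFinset _).1 hχ
  obtain ⟨ψ₁, hψ₁, hψ₁0⟩ := exists_height_zero (p := p) (IsPBlock.nonempty hB)
  obtain ⟨ψ, hψS, hψmin⟩ := Finset.exists_min_image S₀ (fun χ => avg ζ N (entry p y b χ χ))
    ⟨ψ₁, Finset.mem_filter.2 ⟨(Set.Finite.mem_toFinset _).2 hψ₁, hψ₁0⟩⟩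
  obtain ⟨hψmem, hψ0⟩ := Finset.mem_filter.1 hψS
  set t := avg ζ N (entry p y b ψ ψ)
  set q : ℝ := (p : ℝ) ^ blockDefect p B with hq
  have ht1 : 1 ≤ t := by
    have h := pow_le_avg_entry hM hy hind hζ hyn hd (hmem hψmem)
    rwa [hψ0, pow_zero] at h
  have hrow := sum_avg_row hM hy hind hζ hyn ψ
  rw [hd, ← hq] at hrow
  set P := (p : ℝ) ^ 2 with hP
  have hP4 : 4 ≤ P := by
    have h2 : (2 : ℝ) ≤ p := by exact_mod_cast hM.1.two_le
    rw [hP]; nlinarith
  have hterm : ∀ χ ∈ S, (1 : ℝ) + (if χ ∈ S₀ then 0 else P - 1) +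
      (if χ = ψ then t ^ 2 - 1 else 0) ≤
        avg ζ N (entry p y b ψ χ * conj (entry p y b ψ χ)) := by
    intro χ hχ
    have h1 := pow_le_avg_entry_mul hM hy hind hζ hyn hd (hmem hχ) (hmem hψmem) hψ0
    rcases eq_or_ne χ ψ with rfl | hne
    · rw [if_pos hψS, if_pos rfl]
      have := sq_avg_le_entry hM hy hind hζ hyn χ
      linarith
    · rw [if_neg hne, add_zero]
      by_cases h0 : χ ∈ S₀
      · rw [if_pos h0, add_zero]
        rw [(Finset.mem_filter.1 h0).2, pow_zero, one_pow] at h1
        exact h1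
      · rw [if_neg h0]
        have h3 : 1 ≤ blockHeight p B (χ : G → ℂ) := by
          by_contra h
          exact h0 (Finset.mem_filter.2 ⟨hχ, by omega⟩)
        have h2 : (p : ℝ) ≤ (p : ℝ) ^ blockHeight p B (χ : G → ℂ) :=
          le_self_pow₀ (by exact_mod_cast hM.1.one_lt.le) (by omega)
        have h4 : P ≤ ((p : ℝ) ^ blockHeight p B (χ : G → ℂ)) ^ 2 :=
          pow_le_pow_left₀ (Nat.cast_nonneg p) h2 2
        linarith
  set k : ℝ := (S.card : ℝ) with hk
  set k₀ : ℝ := (S₀.card : ℝ) with hk₀
  have hII : k + (k - k₀) * (P - 1) + (t ^ 2 - 1) ≤ q * t := by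
    have h := Finset.sum_le_sum hterm
    rw [hrow, Finset.sum_add_distrib, Finset.sum_add_distrib, Finset.sum_const, nsmul_eq_mul, mul_one,
      Finset.sum_ite_eq', if_pos hψmem, Finset.sum_ite, Finset.sum_const_zero, zero_add,
      Finset.sum_const, nsmul_eq_mul] at h
    have hc : ((S.filter fun χ => χ ∉ S₀).card : ℝ) = k - k₀ := by
      have h' := Finset.card_filter_add_card_filter_not (s := S) (fun χ => χ ∈ S₀)
      rw [Finset.filter_mem_eq_inter, Finset.inter_eq_right.2 (Finset.filter_subset _ _)] at h'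
      rw [hk, hk₀, ← h']
      push_cast
      ring
    rw [hc] at h
    exact h
  have hI : k₀ * t ≤ q * (L : ℝ) ^ 2 := by
    calc k₀ * t = ∑ _χ ∈ S₀, t := by rw [Finset.sum_const, nsmul_eq_mul]
      _ ≤ ∑ χ ∈ S₀, avg ζ N (entry p y b χ χ) := Finset.sum_le_sum hψmin
      _ ≤ ∑ χ ∈ S, avg ζ N (entry p y b χ χ) :=
        Finset.sum_le_sum_of_subset_of_nonneg (Finset.filter_subset _ _) fun χ hχ _ =>
          le_trans (by positivity) (pow_le_avg_entry hM hy hind hζ hyn hd (hmem hχ))
      _ = q * (blockRank p b : ℝ) := by rw [sum_avg_self hM hy hind hζ hyn, hd]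
      _ ≤ q * (L : ℝ) ^ 2 := mul_le_mul_of_nonneg_left (by exact_mod_cast hrank) (by positivity)
  have hk0le : k₀ ≤ k := by
    rw [hk, hk₀]
    exact Nat.cast_le.2 (Finset.card_le_card (Finset.filter_subset _ _))
  have hqL : q = P * L := by rw [hq, hP]; exact_mod_cast hL
  have hLpos : (0 : ℝ) < L := by
    have : L ≠ 0 := fun h => (pow_ne_zero (blockDefect p B) hM.1.ne_zero) (by rw [hL, h, mul_zero])
    exact_mod_cast Nat.pos_of_ne_zero this
  have hmain : k < q * L + 1 := by
    rcases le_or_gt t (L : ℝ) with h1 | h1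
    · have e1 : 0 ≤ (k - k₀) * (P - 1) := mul_nonneg (by linarith) (by linarith)
      have e2 : 1 ≤ t ^ 2 := one_le_pow₀ ht1
      have e3 : q * t ≤ q * L := mul_le_mul_of_nonneg_left h1 (by positivity)
      linarith
    rcases le_or_gt t ((P - 1) * L) with h2 | h2
    · -- the middle range
      have h3 : P * k * t ≤ P * (q * L) * t := by
        have h4 : P * k ≤ (P - 1) * k₀ + q * t := by nlinarith
        have h5 : 0 ≤ (t - L) * ((P - 1) * L - t) :=
          mul_nonneg (by linarith) (by linarith)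
        have h6 : ((P - 1) * k₀) * t ≤ (P - 1) * (q * (L : ℝ) ^ 2) := by
          rw [mul_assoc]; exact mul_le_mul_of_nonneg_left hI (by linarith)
        have hq0 : 0 ≤ q := by positivity
        calc P * k * t ≤ ((P - 1) * k₀ + q * t) * t := mul_le_mul_of_nonneg_right h4 (by linarith)
          _ ≤ (P - 1) * (q * (L : ℝ) ^ 2) + q * t * t := by nlinarith
          _ ≤ P * (q * L) * t := by nlinarith [mul_nonneg hq0 h5]
      have h7 : k ≤ q * L := le_of_mul_le_mul_left (le_of_mul_le_mul_right (by linarith) (by linarith : (0 : ℝ) < t))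
        (by linarith : (0 : ℝ) < P)
      linarith
    · have h3 : q - t < L := by nlinarith
      have h4 : t ≤ q := by
        by_contra h
        push Not at h
        have hk1 : 1 ≤ k := by
          rw [hk]; exact_mod_cast Finset.card_pos.2 ⟨ψ, hψmem⟩
        nlinarith
      nlinarith
  have hcard : Nat.card B = S.card := by
    rw [hS, Nat.card_coe_set_eq, Set.ncard_eq_toFinset_card _ (Set.toFinite B)]
  rw [hcard]
  have : (S.card : ℝ) < ((p ^ blockDefect p B * L + 1 : ℕ) : ℝ) := by
    push_cast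
    rw [← hk]
    exact hmain
  have := Nat.cast_lt.1 this
  omega

end Subsection

/-- A central element of order `p` in a defect group. -/
theorem exists_central_orderOf {B : Set (IrrCharacter G)} {D : Subgroup G}
    (hD : IsDefectGroup p M B D) (hne : D ≠ ⊥) :
    ∃ z ∈ D, orderOf z = p ∧ ∀ u ∈ D, u * z = z * u := by
  have : Nontrivial D := D.nontrivial_iff_ne_bot.2 hne
  have hDp := IsDefectGroup.isPGroup hD
  have := hDp.center_nontrivial
  obtain ⟨i, hi⟩ := IsPGroup.iff_card.1 (hDp.to_subgroup (Subgroup.center D))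
  have hdvd : p ∣ Nat.card (Subgroup.center D) := by
    rcases Nat.eq_zero_or_pos i with h | h
    · exact absurd (hi.trans (by rw [h, pow_zero])) Finite.one_lt_card.ne'
    · exact hi ▸ dvd_pow_self p h.ne'
  obtain ⟨w, hw⟩ := exists_prime_orderOf_dvd_card' (G := Subgroup.center D) p hdvd
  refine ⟨((w : D) : G), (w : D).2, ?_, fun u hu => ?_⟩
  · rw [Subgroup.orderOf_coe, Subgroup.orderOf_coe, hw]
  · exact congrArg Subtype.val (Subgroup.mem_center_iff.1 w.2 ⟨u, hu⟩)

/-- For a central element of order `p` and defect at most two the form of a block is zero or at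
least its rank. -/
theorem rank_le_form_of_central {z : G} (hz : orderOf z = p) (hcen : ∀ g : G, g * z = z * g)
    [Fintype (IrrCharacter G)] {b : Set (IrrCharacter G)} (hb : IsPBlock M b)
    (hd : blockDefect p b ≤ 2) (v : IrrCharacter G → ℤ) :
    form (formR p b) v = 0 ∨ max 1 (blockRank p b : ℤ) ≤ form (formR p b) v := by
  have : (Subgroup.zpowers z).Normal := ⟨fun a ha g => by
    obtain ⟨i, rfl⟩ := Subgroup.mem_zpowers_iff.1 ha
    rwa [((show Commute g z from hcen g).zpow_right i).eq, mul_inv_cancel_right]⟩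
  have := Fintype.ofFinite (G ⧸ Subgroup.zpowers z)
  have := Fintype.ofFinite (IrrCharacter (G ⧸ Subgroup.zpowers z))
  obtain ⟨bq, hbq, hdq, hr, hform⟩ := exists_quotient_form hM hz hcen hb
  obtain ⟨v', hv'⟩ := hform v
  rcases rank_le_form_of_defect_le_one hM hbq (by omega) v' with h | h
  · exact Or.inl (by rw [hv', h, mul_zero])
  · refine Or.inr (le_trans ?_ (hv' ▸ le_trans h (le_mul_of_one_le_left
      (le_trans (le_trans zero_le_one (le_max_left _ _)) h) (one_le_pow₀ (by exact_mod_cast hM.1.one_lt.le)))))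
    exact max_le_max le_rfl (by exact_mod_cast hr)

end CfsgLib.DefectOne

namespace CfsgLib.DefectOne

open Cfsg CfsgLib.Blocks CfsgLib.Blocks.SubForm CfsgLib.Char CfsgLib.CharAction CfsgLib.CycloTrace

/-- **Brauer–Feit**. -/
theorem card_block_le {p : ℕ} [Fact p.Prime] {M : Ideal AlgInt} [M.IsPrime] (hM : IsPModular p M) :
    ∀ (n : ℕ) (G : Type u) [Group G] [Fintype G], Nat.card G = n → ∀ B : Set (IrrCharacter G),
      IsPBlock M B → (blockDefect p B ≤ 2 → Nat.card B ≤ p ^ blockDefect p B) ∧
        (3 ≤ blockDefect p B → Nat.card B ≤ p ^ (2 * blockDefect p B - 2)) := by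
  classical
  intro n
  induction n using Nat.strong_induction_on with
  | _ n ih =>
    intro G _ _ hn B hB
    rcases Nat.eq_zero_or_pos (blockDefect p B) with h0 | hpos
    · rw [card_eq_one_of_defect_zero hM hB h0]
      exact ⟨fun _ => Nat.one_le_pow _ _ hM.1.pos, fun h => by omega⟩
    obtain ⟨D, hD⟩ := exists_isDefectGroup (p := p) hB
    have hne : D ≠ ⊥ := fun h => by
      have := IsDefectGroup.card_eq hM hB hD
      rw [h, Subgroup.card_bot] at this
      exact (Nat.one_lt_pow hpos.ne' hM.1.one_lt).ne this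
    obtain ⟨z, hzD, hz, hzc⟩ := exists_central_orderOf hM hD hne
    obtain ⟨b, hind, hd, -⟩ := exists_major_central hM hB hD hzD hzc
    have hy : ∃ k : ℕ, orderOf z = p ^ k := ⟨1, by rw [hz, pow_one]⟩
    have := Fintype.ofFinite (IrrCharacter (Subgroup.centralizer ({z} : Set G)))
    have := Fintype.ofFinite (IrrCharacter G)
    set zC : Subgroup.centralizer ({z} : Set G) :=
      ⟨z, mem_centralizer_singleton.2 (Commute.refl z)⟩
    have hzC : orderOf zC = p := (Subgroup.orderOf_mk z _).trans hz
    have hcen : ∀ g : Subgroup.centralizer ({z} : Set G), g * zC = zC * g :=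
      fun g => Subtype.ext (mem_centralizer_singleton.1 g.2).eq
    obtain ⟨hb, -, -⟩ := isInducedBlock_iff.1 hind
    refine ⟨fun h2 => ?_, fun h3 => ?_⟩
    · obtain ⟨ψ, hψ, hψ0⟩ := exists_height_zero (p := p) (IsPBlock.nonempty hB)
      have h := card_mul_le_of_min hM hy hind (Set.toFinite B).toFinset
        (fun χ hχ => (Set.Finite.mem_toFinset _).1 hχ)
        (fun χ hχ => ⟨ψ, fun h => entry_ne_zero hM hy hind hd ((Set.Finite.mem_toFinset _).1 hχ) hψ hψ0
          (by rw [← conj_entry, h, map_zero])⟩)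
        (μ := max 1 (blockRank p b : ℤ)) (le_trans zero_le_one (le_max_left _ _))
        fun v hv => (rank_le_form_of_central hM hzC hcen hb (hd ▸ h2) v).resolve_left hv
      rw [← Set.ncard_eq_toFinset_card B (Set.toFinite B), ← Nat.card_coe_set_eq, hd] at h
      have h' : (Nat.card B : ℤ) * max 1 (blockRank p b : ℤ) ≤
          ((p ^ blockDefect p B : ℕ) : ℤ) * max 1 (blockRank p b : ℤ) := by
        push_cast
        exact h.trans (mul_le_mul_of_nonneg_left (le_max_right _ _) (by positivity))
      exact_mod_cast le_of_mul_le_mul_right h' (lt_of_lt_of_le zero_lt_one (le_max_left _ _))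
    · have : (Subgroup.zpowers zC).Normal := ⟨fun a ha g => by
        obtain ⟨i, rfl⟩ := Subgroup.mem_zpowers_iff.1 ha
        rwa [((show Commute g zC from hcen g).zpow_right i).eq, mul_inv_cancel_right]⟩
      have := Fintype.ofFinite (Subgroup.centralizer ({z} : Set G) ⧸ Subgroup.zpowers zC)
      have := Fintype.ofFinite (IrrCharacter (Subgroup.centralizer ({z} : Set G) ⧸ Subgroup.zpowers zC))
      obtain ⟨bq, hbq, hdq, hr, -⟩ := exists_quotient_form hM hzC hcen hb
      have hlt : Nat.card (Subgroup.centralizer ({z} : Set G) ⧸ Subgroup.zpowers zC) < n := by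
        have h1 := Subgroup.card_eq_card_quotient_mul_card_subgroup (Subgroup.zpowers zC)
        rw [Nat.card_zpowers, hzC] at h1
        have h2 := Subgroup.card_le_card_group (Subgroup.centralizer ({z} : Set G))
        have h3 := Nat.mul_le_mul_left
          (Nat.card (Subgroup.centralizer ({z} : Set G) ⧸ Subgroup.zpowers zC)) hM.1.two_le
        have h4 : 0 < Nat.card (Subgroup.centralizer ({z} : Set G) ⧸ Subgroup.zpowers zC) := Nat.card_pos
        omega
      obtain ⟨hsmall, hlarge⟩ := ih _ hlt _ rfl bq hbq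
      have hL : blockRank p b ≤ (p ^ (blockDefect p B - 2)) ^ 2 := by
        refine hr.trans ((blockRank_le_card bq).trans ?_)
        rw [← pow_mul]
        rcases le_or_gt (blockDefect p bq) 2 with h | h
        · exact (hsmall h).trans (Nat.pow_le_pow_right hM.1.pos (by omega))
        · exact (hlarge h).trans (Nat.pow_le_pow_right hM.1.pos (by omega))
      refine (card_le_of_rank_le_sq hM hy hind hd ?_ hL).trans_eq ?_
      · rw [← pow_add]; congr 1; omega
      · rw [← pow_add]; congr 1; omega

/-- The principal block has full defect. -/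
theorem blockDefect_principal {p : ℕ} (M : Ideal AlgInt) [M.IsPrime] (K : Type*) [Group K] [Fintype K] :
    blockDefect p (principalBlock M K) = (Nat.card K).factorization p := by
  have h : minDeg p (principalBlock M K) = 0 := by
    refine Nat.le_zero.1 ((minDeg_le (trivChar_mem_principalBlock (M := M) (G := K))).trans ?_)
    simp [degVal, charDegree, Char.trivChar_apply]
  rw [blockDefect_eq_sub, h, Nat.sub_zero]

end CfsgLib.DefectOne
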