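import Cfsg.Agent.Lib.Blocks.Cyclo.Form
import Cfsg.Agent.Lib.Blocks.Vanishing
import Cfsg.Agent.Lib.Blocks.Covering

/-!
# A block with central defect group of prime order

All members of such a block agree on `p`-regular elements, and their sum is `p` times the regular
part of any one of them.
-/

set_option autoImplicit false

namespace CfsgLib.DefectOne

open Cfsg CfsgLib.Blocks CfsgLib.Blocks.SubForm CfsgLib.Char CfsgLib.CharAction CfsgLib.CycloTrace
open scoped ComplexConjugate Classical

/-- All members of `b` are `φ` on regular elements, and their sum is `p` times the regular part. -/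
structure IsFlat {C : Type*} [Group C] (p : ℕ) (b : Set (IrrCharacter C)) (φ : C → ℂ) : Prop where
  regular : ∀ η ∈ b, ∀ y : C, ¬ p ∣ orderOf y → (η : C → ℂ) y = φ y
  sum : ∀ w : C, ∑ᶠ η ∈ b, (η : C → ℂ) w = (p : ℂ) * regCut p φ w

theorem IsFlat.image_pull {C C' : Type*} [Group C] [Group C'] {p : ℕ} {b : Set (IrrCharacter C)}
    {φ : C → ℂ} (h : IsFlat p b φ) (e : C' ≃* C) :
    IsFlat p (pullEquiv e '' b) fun w => φ (e w) where
  regular := by
    rintro _ ⟨η, hη, rfl⟩ y hy
    exact h.regular η hη (e y) (by rwa [MulEquiv.orderOf_eq])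
  sum w := by
    rw [finsum_mem_image (pullEquiv e).injective.injOn]
    simp only [pullEquiv_apply, regCut]
    rw [h.sum, regCut, MulEquiv.orderOf_eq]

variable {C : Type*} [Group C] [Fintype C] {p : ℕ} [Fact p.Prime] {M : Ideal AlgInt} [M.IsPrime]
  (hM : IsPModular p M)
include hM

section

variable {b : Set (IrrCharacter C)} (hb : IsPBlock M b) {x : C} (hx : orderOf x = p)
  (hcen : ∀ g : C, g * x = x * g) (hD : IsDefectGroup p M b (Subgroup.zpowers x))
include hb hx hcen hD

omit hcen in
theorem blockDefect_eq : blockDefect p b = 1 := by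
  have h := IsDefectGroup.card_eq hM hb hD
  rw [Nat.card_zpowers, hx] at h
  exact Nat.pow_right_injective hM.1.two_le (by simpa using h.symm)

/-- On singular elements a member is nonzero only at translates of regular elements. -/
theorem exists_pow_mul_of_ne_zero {η : IrrCharacter C} (hη : η ∈ b) {w : C}
    (hw : (η : C → ℂ) w ≠ 0) : ∃ j, j < p ∧ ∃ y : C, ¬ p ∣ orderOf y ∧ w = x ^ j * y := by
  obtain ⟨z, hz⟩ := exists_pPart hM.1 w
  have hmem : z ∈ Subgroup.zpowers x := by
    by_contra hcon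
    refine hw (apply_eq_zero_of_pPart_notMem hM hb hη hz fun D' hD' hzD => hcon ?_)
    obtain ⟨c, hc⟩ := IsDefectGroup.exists_conj hM hb hD' hD
    obtain ⟨i, hi⟩ := Subgroup.mem_zpowers_iff.1
      (hc.le ⟨z, hzD, rfl⟩ : MulAut.conj c z ∈ Subgroup.zpowers x)
    refine Subgroup.mem_zpowers_iff.2 ⟨i, ?_⟩
    have hcx : Commute c (x ^ i) := (show Commute c x from hcen c).zpow_right i
    rw [MulAut.conj_apply] at hi
    calc x ^ i = c⁻¹ * (c * x ^ i * c⁻¹) * c := by group
      _ = c⁻¹ * x ^ i * c := by rw [hcx.eq]; group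
      _ = z := by rw [hi]; group
  obtain ⟨y, hy, -, -, hyo⟩ := hz
  have hmem' : z ∈ Submonoid.powers x := mem_powers_iff_mem_zpowers.2 hmem
  obtain ⟨j, rfl⟩ := hmem'
  exact ⟨j % p, Nat.mod_lt _ hM.1.pos, y, hyo, by rw [← hx, pow_mod_orderOf, hy]⟩

omit hD hM [Fact p.Prime] [M.IsPrime] hb hcen in
theorem translate_injective {j j' : ℕ} (hj : j < p) (hj' : j' < p) {y y' : C}
    (hp : p.Prime) (hy : ¬ p ∣ orderOf y) (hy' : ¬ p ∣ orderOf y') (hc : Commute x y)
    (hc' : Commute x y') (h : x ^ j * y = x ^ j' * y') : j = j' ∧ y = y' := by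
  have hpow : ∀ i : ℕ, ∃ k, orderOf (x ^ i) = p ^ k := fun i => by
    have hd : orderOf (x ^ i) ∣ p ^ 1 := by rw [pow_one]; exact hx ▸ orderOf_pow_dvd i
    obtain ⟨k, -, hk⟩ := (Nat.dvd_prime_pow hp).1 hd
    exact ⟨k, hk⟩
  have h1 : IsPPart p (x ^ j * y) (x ^ j) := ⟨y, rfl, hc.pow_left j, hpow j, hy⟩
  have h2 : IsPPart p (x ^ j * y) (x ^ j') := ⟨y', h.symm, hc'.pow_left j', hpow j', hy'⟩
  have he : x ^ j = x ^ j' := by
    have := conj_pPart_eq hp h1 h2 (j := 1) (x := 1) (by simpa using hp.ne_one) (by simp)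
    simpa using this
  refine ⟨pow_injOn_Iio_orderOf (hx.symm ▸ hj : j < orderOf x) (hx.symm ▸ hj' : j' < orderOf x) he,
    mul_left_cancel (he ▸ h : x ^ j' * y = x ^ j' * y')⟩

/-- The orthogonality of two members in terms of the regular form. -/
theorem delta_eq {η η' : IrrCharacter C} (hη : η ∈ b) (hη' : η' ∈ b) :
    (p : ℂ) * classInner (η : C → ℂ) (η' : C → ℂ) =
      (∑ j ∈ Finset.range p, (((η : C → ℂ) x / (η : C → ℂ) 1) *
        conj ((η' : C → ℂ) x / (η' : C → ℂ) 1)) ^ j) * formR p b η η' := by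
  rw [formR_eq hM hb hη hη', blockDefect_eq hM hb hx hD, pow_one, classInner, classInner_regCut,
    mul_left_comm _ (p : ℂ) _]
  congr 1
  rw [mul_left_comm _ (Nat.card C : ℂ)⁻¹ _]
  congr 1
  set R := Finset.univ.filter fun y : C => ¬ p ∣ orderOf y
  let S := (Finset.range p ×ˢ R).image fun q : ℕ × C => x ^ q.1 * q.2
  rw [← Finset.sum_subset (Finset.subset_univ S) fun w _ hw => ?_, Finset.sum_image, Finset.sum_product,
    Finset.sum_mul]
  · refine Finset.sum_congr rfl fun j _ => ?_
    rw [Finset.mul_sum]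
    refine Finset.sum_congr rfl fun y _ => ?_
    have hval : ∀ ξ : IrrCharacter C,
        (ξ : C → ℂ) (x ^ j * y) = ((ξ : C → ℂ) x / (ξ : C → ℂ) 1) ^ j * (ξ : C → ℂ) y := by
      intro ξ
      have h1 := Char.IsIrr.apply_one_ne_zero ξ.2
      clear * - h1 hcen
      induction j with
      | zero => simp
      | succ j ih =>
        rw [pow_succ' x, mul_assoc, pow_succ', mul_assoc, ← ih]
        have h2 := apply_central_mul ξ hcen (x ^ j * y)
        field_simp
        linear_combination h2
    rw [hval, hval, map_mul, map_pow, mul_pow]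
    ring
  · rintro ⟨j, y⟩ hq ⟨j', y'⟩ hq' he
    obtain ⟨hj, hy⟩ := Finset.mem_product.1 hq
    obtain ⟨hj', hy'⟩ := Finset.mem_product.1 hq'
    obtain ⟨rfl, rfl⟩ := translate_injective hx (Finset.mem_range.1 hj) (Finset.mem_range.1 hj')
      hM.1 (Finset.mem_filter.1 hy).2 (Finset.mem_filter.1 hy').2 (hcen y).symm (hcen y').symm he
    rfl
  · suffices hz : (η : C → ℂ) w = 0 by rw [hz, zero_mul]
    by_contra hne
    obtain ⟨j, hj, y, hy, rfl⟩ := exists_pow_mul_of_ne_zero hM hb hx hcen hD hη hne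
    exact hw (Finset.mem_image.2 ⟨(j, y), Finset.mem_product.2 ⟨Finset.mem_range.2 hj,
      Finset.mem_filter.2 ⟨Finset.mem_univ _, hy⟩⟩, rfl⟩)

omit hcen hD in
theorem omega_pow (η : IrrCharacter C) (hcen : ∀ g : C, g * x = x * g) :
    ((η : C → ℂ) x / (η : C → ℂ) 1) ^ p = 1 := by
  have h1 := Char.IsIrr.apply_one_ne_zero η.2
  have hm : ∀ m : ℕ, ((η : C → ℂ) x / (η : C → ℂ) 1) ^ m =
      (η : C → ℂ) (x ^ m) / (η : C → ℂ) 1 := by
    intro m
    induction m with
    | zero => rw [pow_zero, pow_zero, div_self h1]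
    | succ m ih =>
      rw [pow_succ', pow_succ', ih]
      have h2 := apply_central_mul η hcen (x ^ m)
      field_simp
      linear_combination -h2
  rw [hm, ← hx, pow_orderOf_eq_one, div_self h1]

theorem omega_mul_conj (η : IrrCharacter C) :
    ((η : C → ℂ) x / (η : C → ℂ) 1) * conj ((η : C → ℂ) x / (η : C → ℂ) 1) = 1 := by
  have h := Complex.norm_eq_one_of_pow_eq_one (omega_pow hM hb hx η hcen) hM.1.ne_zero
  rw [Complex.mul_conj, Complex.normSq_eq_norm_sq, h]
  simp

variable [Fintype (IrrCharacter C)]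

omit hx hcen hD [Fintype (IrrCharacter C)] in
theorem form_pair [Fintype (IrrCharacter C)] (η η' : IrrCharacter C) (s t : ℤ) :
    form (formR p b) (fun ξ => (if ξ = η then s else 0) + if ξ = η' then t else 0) =
      s * s * formR p b η η + 2 * (s * t * formR p b η η') + t * t * formR p b η' η' := by
  simp only [form, mul_add, add_mul, Finset.sum_add_distrib, mul_ite, ite_mul, zero_mul, mul_zero,
    Finset.sum_ite_eq', Finset.mem_univ, if_true]
  rw [formR_comm hM hb η' η]
  ring

/-- The regular form of the block is identically one. -/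
theorem formR_eq_one {η η' : IrrCharacter C} (hη : η ∈ b) (hη' : η' ∈ b) :
    formR p b η η' = 1 := by
  have hp0 : (p : ℂ) ≠ 0 := Nat.cast_ne_zero.2 hM.1.ne_zero
  have hdiag : ∀ ξ ∈ b, formR p b ξ ξ = 1 := by
    intro ξ hξ
    have h := delta_eq hM hb hx hcen hD hξ hξ
    rw [omega_mul_conj hM hb hx hcen hD ξ, classInner_irr_self] at h
    simp only [one_pow, Finset.sum_const, Finset.card_range, nsmul_eq_mul, mul_one] at h
    exact Int.cast_injective (α := ℂ) (by
      push_cast
      exact (mul_left_cancel₀ hp0 (by rw [mul_one]; exact h)).symm)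
  rcases eq_or_ne η η' with rfl | hne
  · exact hdiag η hη
  have hform : ∀ s t : ℤ, 0 ≤ s * s + 2 * (s * t * formR p b η η') + t * t := by
    intro s t
    have := form_nonneg hM hb (fun ξ => (if ξ = η then s else 0) + if ξ = η' then t else 0)
    rwa [form_pair hM hb, hdiag η hη, hdiag η' hη', mul_one, mul_one] at this
  have h0 : formR p b η η' ≠ 0 := by
    intro h0
    refine not_orthonormal hM hb (v := fun ξ => if ξ = η then 1 else 0)
      (w := fun ξ => if ξ = η' then 1 else 0) ?_ ?_ ?_
    · simp [form, hdiag η hη]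
    · simp [form, hdiag η' hη']
    · simp [h0]
  set R := formR p b η η' with hRdef
  have hR : R = 1 ∨ R = -1 := by
    have h1 := hform 1 1
    have h2 := hform 1 (-1)
    omega
  refine hR.resolve_right fun hR1 => ?_
  have hz : form (formR p b) (fun ξ => (if ξ = η then 1 else 0) + if ξ = η' then 1 else 0) = 0 := by
    rw [form_pair hM hb, hdiag η hη, hdiag η' hη', ← hRdef, hR1]
    norm_num
  have h := form_formR hM hb fun ξ => (if ξ = η then 1 else 0) + if ξ = η' then 1 else 0
  rw [hz, Int.cast_zero, eq_comm, mul_eq_zero, mul_eq_zero, ← Complex.ofReal_sum,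
    Complex.ofReal_eq_zero, Finset.sum_eq_zero_iff_of_nonneg fun w _ => Complex.normSq_nonneg _] at h
  have h' := (h.resolve_left (pow_ne_zero _ hp0)).resolve_left
    (inv_ne_zero (Nat.cast_ne_zero.2 Nat.card_pos.ne'))
  have h1 := Complex.normSq_eq_zero.1 (h' 1 (Finset.mem_filter.2 ⟨Finset.mem_univ _, by
    rw [orderOf_one]; exact hM.1.not_dvd_one⟩))
  simp only [Int.cast_add, Int.cast_ite, Int.cast_one, Int.cast_zero, add_mul, ite_mul, one_mul,
    zero_mul, Finset.sum_add_distrib, Finset.sum_ite_eq', Set.Finite.mem_toFinset, hη, hη',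
    if_true, apply_one_eq_charDegree] at h1
  have : charDegree (η : C → ℂ) + charDegree (η' : C → ℂ) = 0 := by exact_mod_cast h1
  have := charDegree_pos η
  omega

/-- The block is flat. -/
theorem isFlat {η₀ : IrrCharacter C} (hη₀ : η₀ ∈ b) : IsFlat p b (η₀ : C → ℂ) where
  regular η hη y hy := by
    let v : IrrCharacter C → ℤ := fun ξ => (if ξ = η then 1 else 0) + if ξ = η₀ then -1 else 0
    have hv : form (formR p b) v = 0 := by
      rw [form_pair hM hb, formR_eq_one hM hb hx hcen hD hη hη, formR_eq_one hM hb hx hcen hD hη₀ hη₀,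
        formR_eq_one hM hb hx hcen hD hη hη₀]
      norm_num
    have h := form_formR hM hb v
    rw [hv, Int.cast_zero, eq_comm, mul_eq_zero, mul_eq_zero, ← Complex.ofReal_sum,
      Complex.ofReal_eq_zero,
      Finset.sum_eq_zero_iff_of_nonneg fun w _ => Complex.normSq_nonneg _] at h
    have h' := (h.resolve_left (pow_ne_zero _ (Nat.cast_ne_zero.2 hM.1.ne_zero))).resolve_left
      (inv_ne_zero (Nat.cast_ne_zero.2 Nat.card_pos.ne'))
    have h1 := Complex.normSq_eq_zero.1 (h' y (Finset.mem_filter.2 ⟨Finset.mem_univ _, hy⟩))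
    simp only [v, Int.cast_add, Int.cast_ite, Int.cast_one, Int.cast_zero, Int.cast_neg, add_mul,
      ite_mul, one_mul, zero_mul, neg_mul, Finset.sum_add_distrib, Finset.sum_ite_eq',
      Set.Finite.mem_toFinset, hη, hη₀, if_true] at h1
    linear_combination h1
  sum w := by
    have hcf := regCut_conj p (Char.IsIrr.isClassFunction η₀.2)
    rw [finsum_mem_eq_finite_toFinset_sum _ (Set.toFinite b), Char.classFunction_apply_eq_sum hcf w,
      ← Finset.sum_subset (Finset.subset_univ (Set.toFinite b).toFinset) fun ξ _ hξ => by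
        rw [classInner_regCut_eq_zero hM hb hη₀ fun h => hξ ((Set.Finite.mem_toFinset _).2 h),
          zero_mul], Finset.mul_sum]
    refine Finset.sum_congr rfl fun ξ hξ => ?_
    have h := formR_eq hM hb hη₀ ((Set.Finite.mem_toFinset _).1 hξ)
    rw [formR_eq_one hM hb hx hcen hD hη₀ ((Set.Finite.mem_toFinset _).1 hξ),
      blockDefect_eq hM hb hx hD, pow_one, Int.cast_one] at h
    rw [← mul_assoc, ← h, one_mul]

end

end CfsgLib.DefectOne
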