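import Cfsg.Agent.Lib.Char.TIExceptional.Star
import Mathlib.Tactic.LinearCombination

/-!
# The arithmetic of a block with defect group of prime order

Integral vectors `a c`, one for each of `m` classes, with Gram matrix `1 + e J` and `e * m = p - 1`:
there are at most `p` coordinates, and `p * |x|^2 - p * ∑ u_c ^ 2 + e * (∑ u_c) ^ 2`, `u_c` the inner
product with `a c`, is zero or at least the number of coordinates minus `m`.
-/

set_option autoImplicit false

namespace CfsgLib.DefectOne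

open Finset

variable {ι J : Type*} [Fintype ι] [Fintype J] [DecidableEq ι] [DecidableEq J]

/-- The form. -/
def qform (p e : ℤ) (a : J → ι → ℤ) (x : ι → ℤ) : ℤ :=
  p * ∑ i, x i * x i - p * ∑ c, (∑ i, a c i * x i) * (∑ i, a c i * x i) +
    e * ((∑ c, ∑ i, a c i * x i) * (∑ c, ∑ i, a c i * x i))

/-- Twice the number of pairs between two nonempty classes is large. -/
theorem double_sum_ge (s : Finset ι) (Z y : ι → ℤ) (hZ : ∀ i ∈ s, Z i ≠ 0)
    (hne : ∃ i ∈ s, ∃ j ∈ s, Z j * y i - Z i * y j ≠ 0) :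
    2 * ((s.card : ℤ) - 1) ≤ ∑ i ∈ s, ∑ j ∈ s, (Z j * y i - Z i * y j) ^ 2 := by
  obtain ⟨i₀, hi₀, j₀, hj₀, hne⟩ := hne
  set P := s.filter fun k => Z k * y i₀ - Z i₀ * y k = 0
  set Q := s.filter fun k => ¬ Z k * y i₀ - Z i₀ * y k = 0
  have hPQ : ∀ i ∈ P, ∀ j ∈ Q, 1 ≤ (Z j * y i - Z i * y j) ^ 2 := by
    intro i hi j hj
    have hne' : Z j * y i - Z i * y j ≠ 0 := fun h => (Finset.mem_filter.1 hj).2
      (mul_left_cancel₀ (hZ i (Finset.mem_filter.1 hi).1)
        (by linear_combination (Z i₀) * h + (Z j) * (Finset.mem_filter.1 hi).2))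
    have := sq_pos_of_ne_zero hne'
    omega
  have hP : 1 ≤ P.card := Finset.card_pos.2 ⟨i₀, Finset.mem_filter.2 ⟨hi₀, by ring⟩⟩
  have hQ : 1 ≤ Q.card := Finset.card_pos.2 ⟨j₀, Finset.mem_filter.2 ⟨hj₀, hne⟩⟩
  have hcard : P.card + Q.card = s.card := Finset.card_filter_add_card_filter_not _
  have hsplit : ∀ f : ι → ℤ, ∑ i ∈ s, f i = ∑ i ∈ P, f i + ∑ i ∈ Q, f i := fun f =>
    (Finset.sum_filter_add_sum_filter_not s _ f).symm
  have hnn : ∀ (A B : Finset ι), 0 ≤ ∑ i ∈ A, ∑ j ∈ B, (Z j * y i - Z i * y j) ^ 2 := fun A B =>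
    Finset.sum_nonneg fun _ _ => Finset.sum_nonneg fun _ _ => sq_nonneg _
  have h1 : (P.card : ℤ) * Q.card ≤ ∑ i ∈ P, ∑ j ∈ Q, (Z j * y i - Z i * y j) ^ 2 := by
    calc (P.card : ℤ) * Q.card = ∑ _i ∈ P, ∑ _j ∈ Q, (1 : ℤ) := by simp
      _ ≤ _ := Finset.sum_le_sum fun i hi => Finset.sum_le_sum fun j hj => hPQ i hi j hj
  have h2 : ∑ i ∈ Q, ∑ j ∈ P, (Z j * y i - Z i * y j) ^ 2 =
      ∑ i ∈ P, ∑ j ∈ Q, (Z j * y i - Z i * y j) ^ 2 := by
    rw [Finset.sum_comm]
    exact Finset.sum_congr rfl fun _ _ => Finset.sum_congr rfl fun _ _ => by ring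
  rw [hsplit]
  simp only [hsplit, Finset.sum_add_distrib]
  have hPP := hnn P P
  have hQQ := hnn Q Q
  have hP' : (1 : ℤ) ≤ P.card := by exact_mod_cast hP
  have hQ' : (1 : ℤ) ≤ Q.card := by exact_mod_cast hQ
  have hc' : (P.card : ℤ) + Q.card = s.card := by exact_mod_cast hcard
  nlinarith

variable {p : ℕ} (hp : p.Prime) {e : ℤ} (a : J → ι → ℤ)
  (hgram : ∀ c c', ∑ i, a c i * a c' i = (if c = c' then 1 else 0) + e)
  (hem : e * (Fintype.card J : ℤ) = (p : ℤ) - 1) (hrow : ∀ i, ∃ c, a c i ≠ 0)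
  {d : ι → ℤ} (hd : ∀ i, 0 < d i) (hdeg : ∀ c, ∑ i, a c i * d i = 0)

include hgram hem in
/-- The trace of the form. -/
theorem sum_qform_single :
    ∑ i, qform (p : ℤ) e a (Pi.single i 1) = p * ((Fintype.card ι : ℤ) - Fintype.card J) := by
  have h1 : ∀ i, qform (p : ℤ) e a (Pi.single i 1) =
      p - p * ∑ c, a c i * a c i + e * ∑ c, ∑ c', a c i * a c' i := fun i => by
    simp [qform, Pi.single_apply, Finset.sum_mul_sum]
  have hA : ∑ i, ∑ c, a c i * a c i = (Fintype.card J : ℤ) * (1 + e) := by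
    rw [Finset.sum_comm, Finset.sum_congr rfl fun c _ => hgram c c]
    simp
  have hB : ∑ i, ∑ c, ∑ c', a c i * a c' i =
      (Fintype.card J : ℤ) * (1 + (Fintype.card J : ℤ) * e) := by
    rw [Finset.sum_comm, Finset.sum_congr rfl fun c _ => Finset.sum_comm]
    simp [hgram, Finset.sum_add_distrib]
  rw [Finset.sum_congr rfl fun i _ => h1 i, Finset.sum_add_distrib, Finset.sum_sub_distrib,
    ← Finset.mul_sum, ← Finset.mul_sum, hA, hB, Finset.sum_const, Finset.card_univ, nsmul_eq_mul]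
  linear_combination (e * (Fintype.card J : ℤ)) * hem

include hp hgram hem hrow hd hdeg in
/-- At most `p` coordinates, and the form is zero or at least the number of free coordinates. -/
theorem card_le_and_qform :
    Fintype.card ι ≤ p ∧ ∀ x : ι → ℤ, qform (p : ℤ) e a x = 0 ∨
      (Fintype.card ι : ℤ) - Fintype.card J ≤ qform (p : ℤ) e a x := by
  have hJ : 0 < Fintype.card J := by
    rcases Nat.eq_zero_or_pos (Fintype.card J) with h | h
    · rw [h, Nat.cast_zero, mul_zero] at hem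
      have := hp.two_le
      omega
    · exact h
  rcases Nat.lt_or_ge (Fintype.card J) 2 with hm | hm
  · -- a single vector
    obtain ⟨c₀, hc₀⟩ := Fintype.card_eq_one_iff.1 (by omega : Fintype.card J = 1)
    have he : e = (p : ℤ) - 1 := by
      rw [show Fintype.card J = 1 by omega, Nat.cast_one, mul_one] at hem; exact hem
    have hn : ∑ i, a c₀ i * a c₀ i = (p : ℤ) := by rw [hgram, if_pos rfl, he]; ring
    have hne : ∀ i, a c₀ i ≠ 0 := fun i => by
      obtain ⟨c, hc⟩ := hrow i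
      rwa [hc₀ c] at hc
    refine ⟨?_, fun x => ?_⟩
    · have h1 : ∀ i, (1 : ℤ) ≤ a c₀ i * a c₀ i := fun i => by
        rw [← sq]; exact sq_pos_of_ne_zero (hne i)
      have := Finset.sum_le_sum (s := Finset.univ) fun i _ => h1 i
      rw [hn] at this
      simpa using this
    have hq : 2 * qform (p : ℤ) e a x = ∑ i, ∑ j, (a c₀ j * x i - a c₀ i * x j) ^ 2 := by
      have huniv : (Finset.univ : Finset J) = {c₀} := by ext c; simp [hc₀ c]
      have hexp : ∀ i j, (a c₀ j * x i - a c₀ i * x j) ^ 2 = (x i * x i) * (a c₀ j * a c₀ j) +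
          (a c₀ i * a c₀ i) * (x j * x j) - 2 * ((a c₀ i * x i) * (a c₀ j * x j)) := fun i j => by ring
      simp only [hexp, Finset.sum_sub_distrib, Finset.sum_add_distrib, ← Finset.mul_sum,
        ← Finset.sum_mul, hn, qform, huniv, Finset.sum_singleton, he]
      ring
    rw [show (Fintype.card J : ℤ) = 1 by exact_mod_cast (by omega : Fintype.card J = 1)]
    by_cases hz : ∃ i ∈ (Finset.univ : Finset ι), ∃ j ∈ (Finset.univ : Finset ι),
        a c₀ j * x i - a c₀ i * x j ≠ 0
    · refine Or.inr ?_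
      have := double_sum_ge Finset.univ (a c₀) x (fun i _ => hne i) hz
      rw [← hq, Finset.card_univ] at this
      omega
    · push Not at hz
      refine Or.inl ?_
      rw [Finset.sum_eq_zero fun i _ => Finset.sum_eq_zero fun j _ => by
        rw [hz i (Finset.mem_univ _) j (Finset.mem_univ _), zero_pow two_ne_zero]] at hq
      omega
  -- a star
  obtain ⟨θ, σ, Z, hθ, hσ, ha⟩ := TIExceptional.exists_star a hgram hd hdeg hm
  have hσ2 : σ * σ = 1 := by rcases hσ with rfl | rfl <;> norm_num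
  set m : ℤ := (Fintype.card J : ℤ) with hmdef
  have hm' : 2 ≤ m := by rw [hmdef]; exact_mod_cast hm
  have hdiag : ∀ c, ∑ i, Z i * Z i + 2 * σ * Z (θ c) + 1 = 1 + e := by
    intro c
    have h := hgram c c
    simp only [ha, mul_add, add_mul, Finset.sum_add_distrib, mul_ite, ite_mul, mul_zero, zero_mul,
      mul_one, Finset.sum_ite_eq', Finset.mem_univ, if_true] at h
    rw [hσ2] at h
    linarith
  obtain ⟨c₀⟩ : Nonempty J := Fintype.card_pos_iff.1 hJ
  set z := Z (θ c₀)
  have hz : ∀ c, Z (θ c) = z := fun c => by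
    have h1 := hdiag c
    have h2 := hdiag c₀
    have h3 : 2 * σ * (Z (θ c) - z) = 0 := by linear_combination h1 - h2
    rcases mul_eq_zero.1 h3 with h | h
    · rcases hσ with rfl | rfl <;> norm_num at h
    · exact sub_eq_zero.1 h
  set X := (Finset.univ.image θ)ᶜ
  have hsplit : ∀ f : ι → ℤ, ∑ i, f i = ∑ c, f (θ c) + ∑ i ∈ X, f i := fun f => by
    rw [← Finset.sum_add_sum_compl (Finset.univ.image θ) f,
      Finset.sum_image fun c _ c' _ h => hθ h]
  have hX : (X.card : ℤ) = (Fintype.card ι : ℤ) - m := by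
    rw [Finset.card_compl, Finset.card_image_of_injective _ hθ, Finset.card_univ, Nat.cast_sub
      (Fintype.card_le_of_injective θ hθ)]
  have hnotθ : ∀ i ∈ X, ∀ c, i ≠ θ c := fun i hi c h =>
    Finset.mem_compl.1 hi (Finset.mem_image.2 ⟨c, Finset.mem_univ _, h.symm⟩)
  have haX : ∀ i ∈ X, ∀ c, a c i = Z i := fun i hi c => by
    rw [ha, if_neg (hnotθ i hi c), mul_zero, add_zero]
  have haθ : ∀ c c', a c (θ c') = z + σ * (if c' = c then 1 else 0) := fun c c' => by
    rw [ha, hz]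
    congr 2
    exact if_congr hθ.eq_iff rfl rfl
  have hZ : ∀ i ∈ X, Z i ≠ 0 := fun i hi h => by
    obtain ⟨c, hc⟩ := hrow i
    exact hc ((haX i hi c).trans h)
  set E := ∑ i ∈ X, Z i * Z i with hEdef
  have hE : E + m * (z * z) + 2 * σ * z = e := by
    have h := hdiag c₀
    rw [hsplit, Finset.sum_congr rfl fun c _ => by rw [hz c], Finset.sum_const, Finset.card_univ,
      nsmul_eq_mul] at h
    linarith
  set g := m * z + σ with hg
  have hp' : g * g + m * E = p := by
    rw [hg]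
    linear_combination m * hE + hσ2 + hem
  have hE0 : (X.card : ℤ) ≤ E := by
    calc (X.card : ℤ) = ∑ _i ∈ X, (1 : ℤ) := by simp
      _ ≤ E := Finset.sum_le_sum fun i hi => by rw [← sq]; exact sq_pos_of_ne_zero (hZ i hi)
  have hg0 : g ≠ 0 := by
    intro h
    rw [h, mul_zero, zero_add] at hp'
    have hdvd : Fintype.card J ∣ p := Int.natCast_dvd_natCast.1 ⟨E, hp'.symm⟩
    rcases hp.eq_one_or_self_of_dvd _ hdvd with h' | h'
    · omega
    · rw [hmdef, h'] at hem
      have h2 : (p : ℤ) ∣ 1 := ⟨1 - e, by linear_combination hem⟩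
      have := Int.le_of_dvd one_pos h2
      have := hp.two_le
      omega
  have hg1 : 1 ≤ g * g := by rw [← sq]; exact sq_pos_of_ne_zero hg0
  have hE1 : 1 ≤ E := by
    by_contra h
    have hE' : E = 0 := by linarith [Int.natCast_nonneg X.card]
    rw [hE', mul_zero, add_zero] at hp'
    have hdvd : g.natAbs ∣ p := by
      have h' : g ∣ (p : ℤ) := ⟨g, hp'.symm⟩
      exact Int.natAbs_dvd_natAbs.2 h' |>.trans (by simp)
    have hsq : g.natAbs * g.natAbs = p := by
      zify
      rw [abs_mul_abs_self, hp']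
    rcases hp.eq_one_or_self_of_dvd _ hdvd with h' | h'
    · rw [h', one_mul] at hsq
      exact hp.one_lt.ne hsq
    · rw [h'] at hsq
      have := hp.two_le
      nlinarith
  refine ⟨?_, fun x => ?_⟩
  · have : (Fintype.card ι : ℤ) ≤ p := by nlinarith
    exact_mod_cast this
  -- the form
  set S := ∑ i ∈ X, Z i * x i with hS
  set Y := ∑ c, x (θ c) with hY
  set N := ∑ i ∈ X, x i * x i with hN
  have hu : ∀ c, ∑ i, a c i * x i = S + z * Y + σ * x (θ c) := by
    intro c
    rw [hsplit, Finset.sum_congr rfl (g := fun c' => (z + σ * (if c' = c then 1 else 0)) * x (θ c'))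
        fun c' _ => by rw [haθ c c'],
      Finset.sum_congr (s₁ := X) rfl (g := fun i => Z i * x i) fun i hi => by rw [haX i hi c]]
    simp only [add_mul, Finset.sum_add_distrib, mul_ite, ite_mul, mul_one, mul_zero, zero_mul,
      Finset.sum_ite_eq', Finset.mem_univ, if_true, ← Finset.mul_sum]
    rw [← hS, ← hY]
    ring
  have hq : qform (p : ℤ) e a x = p * N - m * (S * S) - 2 * g * (S * Y) + E * (Y * Y) := by
    have hT : ∑ c, ∑ i, a c i * x i = m * (S + z * Y) + σ * Y := by
      simp only [hu, Finset.sum_add_distrib, Finset.sum_const, Finset.card_univ, nsmul_eq_mul,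
        ← Finset.mul_sum, hY, hmdef]
      ring
    have hU : ∑ c, (∑ i, a c i * x i) * (∑ i, a c i * x i) =
        m * ((S + z * Y) * (S + z * Y)) + 2 * σ * (S + z * Y) * Y + ∑ c, x (θ c) * x (θ c) := by
      simp only [hu]
      rw [Finset.sum_congr rfl fun c _ => show (S + z * Y + σ * x (θ c)) * (S + z * Y + σ * x (θ c)) =
        (S + z * Y) * (S + z * Y) + 2 * σ * (S + z * Y) * x (θ c) + x (θ c) * x (θ c) by
          linear_combination (x (θ c) * x (θ c)) * hσ2]
      simp only [Finset.sum_add_distrib, Finset.sum_const, Finset.card_univ, nsmul_eq_mul,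
        ← Finset.mul_sum, ← hY, hmdef]
    rw [qform, hT, hU, hsplit, ← hN]
    rw [hg]
    linear_combination (m * (S + z * Y) * (S + z * Y) + 2 * σ * (S + z * Y) * Y) * hem +
      (Y * Y) * (e * hσ2 - hE)
  set L := ∑ i ∈ X, (g * x i - Y * Z i) ^ 2 with hL
  set W := ∑ i ∈ X, ∑ j ∈ X, (Z j * x i - Z i * x j) ^ 2 with hW
  have hid : 2 * qform (p : ℤ) e a x = 2 * L + m * W := by
    have hexp : ∀ i j, (Z j * x i - Z i * x j) ^ 2 = (x i * x i) * (Z j * Z j) +
        (Z i * Z i) * (x j * x j) - 2 * ((Z i * x i) * (Z j * x j)) := fun i j => by ring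
    have hexp' : ∀ i, (g * x i - Y * Z i) ^ 2 =
        g * g * (x i * x i) - 2 * g * Y * (Z i * x i) + Y * Y * (Z i * Z i) := fun i => by ring
    rw [hq, hW, hL]
    simp only [hexp, hexp', Finset.sum_sub_distrib, Finset.sum_add_distrib, ← Finset.mul_sum,
      ← Finset.sum_mul, ← hN, ← hS, ← hEdef]
    linear_combination (-2 * N) * hp'
  rw [← hX]
  by_cases hw : ∃ i ∈ X, ∃ j ∈ X, Z j * x i - Z i * x j ≠ 0
  · refine Or.inr ?_
    have hW2 := double_sum_ge X Z x hZ hw
    have hL1 : 1 ≤ L := by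
      obtain ⟨i, hi, j, hj, hne⟩ := hw
      by_contra hcon
      have hL0 : L = 0 := le_antisymm (by omega) (Finset.sum_nonneg fun _ _ => sq_nonneg _)
      rw [hL, Finset.sum_eq_zero_iff_of_nonneg fun _ _ => sq_nonneg _] at hL0
      have h1 := pow_eq_zero_iff two_ne_zero |>.1 (hL0 i hi)
      have h2 := pow_eq_zero_iff two_ne_zero |>.1 (hL0 j hj)
      exact hne (mul_left_cancel₀ hg0 (by linear_combination (Z j) * h1 - (Z i) * h2))
    have hXpos : 1 ≤ X.card := Finset.card_pos.2 ⟨_, hw.choose_spec.1⟩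
    have hX' : (1 : ℤ) ≤ X.card := by exact_mod_cast hXpos
    nlinarith
  push Not at hw
  have hW0 : W = 0 := Finset.sum_eq_zero fun i hi => Finset.sum_eq_zero fun j hj => by
    rw [hw i hi j hj, zero_pow two_ne_zero]
  rw [hW0, mul_zero, add_zero] at hid
  have hqL : qform (p : ℤ) e a x = L := by omega
  rw [hqL]
  by_cases h0 : ∀ i ∈ X, g * x i - Y * Z i = 0
  · exact Or.inl (Finset.sum_eq_zero fun i hi => by rw [h0 i hi, zero_pow two_ne_zero])
  push Not at h0
  obtain ⟨i, hi, hne⟩ := h0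
  refine Or.inr ?_
  calc (X.card : ℤ) = ∑ _j ∈ X, (1 : ℤ) := by simp
    _ ≤ L := Finset.sum_le_sum fun j hj => by
      have hj0 : g * x j - Y * Z j ≠ 0 := fun h => hne
        (mul_left_cancel₀ (hZ j hj) (by linear_combination (Z i) * h + g * hw i hi j hj))
      have := sq_pos_of_ne_zero hj0
      omega

end CfsgLib.DefectOne
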