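import Cfsg.Agent.Lib.Blocks.DefectOne.Central
import Cfsg.Agent.Lib.Blocks.ConjugateRoots
import Cfsg.Agent.Lib.Pairs.Basic
import Cfsg.Agent.Lib.Blocks.SubsectionNorms
import Mathlib.Analysis.SpecialFunctions.Complex.CircleAddChar

/-!
# The decomposition column of a subsection with defect group of prime order

For `x` of order `p` and a flat block of `C = C(x)`, `dsum j χ` is the decomposition number of `χ`
at `x ^ j`; it is an integral combination of `p`-th roots of unity conjugate under the Galois group,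
the columns are orthogonal and the roots of the block are conjugate to one.
-/

set_option autoImplicit false

namespace CfsgLib.DefectOne

open Cfsg CfsgLib.Blocks CfsgLib.Blocks.SubForm CfsgLib.Char CfsgLib.CharAction
open scoped ComplexConjugate Classical

section Flat

variable {C : Type*} [Group C] [Fintype C] {p : ℕ} {b : Set (IrrCharacter C)} {φ : C → ℂ}

theorem IsFlat.sum_classInner (h : IsFlat p b φ) (θ : C → ℂ) :
    ∑ᶠ η ∈ b, classInner θ (η : C → ℂ) = (p : ℂ) / (Nat.card C : ℂ) *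
      ∑ w ∈ Finset.univ.filter (fun w : C => ¬ p ∣ orderOf w), θ w * conj (φ w) := by
  have h' : ∀ w, ∑ η ∈ (Set.toFinite b).toFinset, (η : C → ℂ) w = (p : ℂ) * regCut p φ w :=
    fun w => by rw [← h.sum w, finsum_mem_eq_finite_toFinset_sum]
  simp only [finsum_mem_eq_finite_toFinset_sum _ (Set.toFinite b), classInner, ← Finset.mul_sum]
  rw [Finset.sum_comm, div_mul_eq_mul_div, eq_div_iff (Nat.cast_ne_zero.2 Nat.card_pos.ne'),
    mul_comm, mul_inv_cancel_left₀ (Nat.cast_ne_zero.2 Nat.card_pos.ne'), Finset.sum_filter,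
    Finset.mul_sum]
  refine Finset.sum_congr rfl fun w _ => ?_
  rw [← Finset.mul_sum, ← map_sum, h', regCut]
  by_cases hw : p ∣ orderOf w
  · rw [if_pos hw, if_neg (not_not.2 hw)]
    simp
  · rw [if_neg hw, if_pos hw, map_mul, map_natCast]
    ring

theorem IsFlat.blockPart_eq_mul (h : IsFlat p b φ) (θ : C → ℂ) {y : C} (hy : ¬ p ∣ orderOf y) :
    blockPart b θ y = φ y * ((p : ℂ) / (Nat.card C : ℂ) *
      ∑ w ∈ Finset.univ.filter (fun w : C => ¬ p ∣ orderOf w), θ w * conj (φ w)) := by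
  rw [← h.sum_classInner θ, blockPart_eq]
  simp only [finsum_mem_eq_finite_toFinset_sum _ (Set.toFinite b), Finset.mul_sum]
  refine Finset.sum_congr rfl fun η hη => ?_
  rw [h.regular η ((Set.Finite.mem_toFinset _).1 hη) y hy, mul_comm]

/-- The norm on regular elements of a member. -/
theorem IsFlat.sum_regular_norm {η₀ : IrrCharacter C} (h : IsFlat p b (η₀ : C → ℂ)) (hη₀ : η₀ ∈ b) :
    (p : ℂ) / (Nat.card C : ℂ) * ∑ w ∈ Finset.univ.filter (fun w : C => ¬ p ∣ orderOf w),
      (η₀ : C → ℂ) w * conj ((η₀ : C → ℂ) w) = 1 := by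
  rw [← h.sum_classInner, finsum_mem_eq_finite_toFinset_sum _ (Set.toFinite b),
    Finset.sum_eq_single_of_mem η₀ ((Set.Finite.mem_toFinset _).2 hη₀) fun η _ hne =>
      Char.classInner_irr_of_ne (Ne.symm hne), Char.classInner_irr_self]

end Flat

variable {G : Type*} [Group G] [Fintype G]

/-- The number of conjugators as a character sum. -/
theorem sum_mul_conj_eq_card [Fintype (IrrCharacter G)] (a b : G) :
    ∑ χ : IrrCharacter G, (χ : G → ℂ) a * conj ((χ : G → ℂ) b) =
      ((Finset.univ.filter fun g : G => g * a * g⁻¹ = b).card : ℂ) := by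
  rw [Char.column_orthogonality]
  split_ifs with h
  · obtain ⟨g₀, hg₀⟩ := isConj_iff.1 h
    rw [Nat.card_eq_fintype_card, ← Finset.card_univ]
    norm_cast
    refine Finset.card_bij (fun z _ => g₀ * (z : G)) (fun z _ => ?_)
      (fun _ _ _ _ e => Subtype.ext (mul_left_cancel e)) fun g hg => ?_
    · refine Finset.mem_filter.2 ⟨Finset.mem_univ _, ?_⟩
      calc g₀ * (z : G) * a * (g₀ * (z : G))⁻¹ = g₀ * ((z : G) * a * (z : G)⁻¹) * g₀⁻¹ := by group
        _ = b := by rw [(mem_centralizer_singleton.1 z.2).eq, mul_inv_cancel_right, hg₀]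
    · have hg' := (Finset.mem_filter.1 hg).2
      refine ⟨⟨g₀⁻¹ * g, mem_centralizer_singleton.2 ?_⟩, Finset.mem_univ _, by simp⟩
      show g₀⁻¹ * g * a = a * (g₀⁻¹ * g)
      calc g₀⁻¹ * g * a = g₀⁻¹ * (g * a * g⁻¹) * g := by group
        _ = g₀⁻¹ * (g₀ * a * g₀⁻¹) * g := by rw [hg', hg₀]
        _ = a * (g₀⁻¹ * g) := by group
  · rw [Finset.filter_eq_empty_iff.2 fun g _ hg => h (isConj_iff.2 ⟨g, hg⟩), Finset.card_empty,
      Nat.cast_zero]

variable {p : ℕ} [Fact p.Prime] {x : G}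

/-- The decomposition number at `x ^ j`. -/
noncomputable def dsum (p : ℕ) (x : G) (φ : Subgroup.centralizer ({x} : Set G) → ℂ) (j : ℕ)
    (χ : IrrCharacter G) : ℂ :=
  (p : ℂ) / (Nat.card (Subgroup.centralizer ({x} : Set G)) : ℂ) *
    ∑ w ∈ Finset.univ.filter (fun w : Subgroup.centralizer ({x} : Set G) => ¬ p ∣ orderOf w),
      (χ : G → ℂ) (x ^ j * (w : G)) * conj (φ w)

variable (hx : orderOf x = p)
include hx

theorem pow_val_natCast (n : ℕ) : x ^ (n : ZMod p).val = x ^ n := by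
  rw [ZMod.val_natCast, ← hx, pow_mod_orderOf]

theorem pow_val_mul (a b : ZMod p) : x ^ (a * b).val = (x ^ a.val) ^ b.val := by
  rw [← pow_mul, ← pow_val_natCast hx (a.val * b.val), Nat.cast_mul, ZMod.natCast_zmod_val,
    ZMod.natCast_zmod_val]

theorem commute_of_commute_pow {h : ZMod p} (hh : h ≠ 0) {g : G} (hg : Commute g (x ^ h.val)) :
    Commute g x := by
  have e : x = (x ^ h.val) ^ (h⁻¹).val := by
    rw [← pow_val_mul hx, mul_inv_cancel₀ hh, ZMod.val_one, pow_one]
  rw [e]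
  exact hg.pow_right _

theorem orderOf_pow_val {j : ZMod p} (hj : j ≠ 0) : orderOf (x ^ j.val) = p := by
  have hd : orderOf (x ^ j.val) ∣ p := (orderOf_pow_dvd j.val).trans hx.dvd
  refine ((Fact.out : p.Prime).eq_one_or_self_of_dvd _ hd).resolve_left fun h => ?_
  rw [orderOf_eq_one_iff, ← orderOf_dvd_iff_pow_eq_one, hx] at h
  exact hj ((ZMod.val_eq_zero j).1 (Nat.eq_zero_of_dvd_of_lt h (ZMod.val_lt j)))

theorem centralizer_pow_val {j : ZMod p} (hj : j ≠ 0) :
    Subgroup.centralizer ({x ^ j.val} : Set G) = Subgroup.centralizer ({x} : Set G) := by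
  ext g
  rw [mem_centralizer_singleton, mem_centralizer_singleton]
  exact ⟨commute_of_commute_pow hx hj, fun h => h.pow_right _⟩

/-- Conjugation by an element mapping `x` to a generator of `⟨x⟩`. -/
def conjC {h : ZMod p} (hh : h ≠ 0) {g : G} (hg : g * x * g⁻¹ = x ^ h.val) :
    Subgroup.centralizer ({x} : Set G) ≃* Subgroup.centralizer ({x} : Set G) where
  toFun w := ⟨g * w * g⁻¹, mem_centralizer_singleton.2 (commute_of_commute_pow hx hh (by
    rw [← hg]
    exact (mem_centralizer_singleton.1 w.2).map (MulAut.conj g).toMonoidHom))⟩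
  invFun w := ⟨g⁻¹ * w * g, mem_centralizer_singleton.2 (by
    have h2 := ((mem_centralizer_singleton.1 w.2).pow_right h.val).map (MulAut.conj g⁻¹).toMonoidHom
    rw [← hg] at h2
    simpa [mul_assoc] using h2)⟩
  left_inv w := Subtype.ext (by group)
  right_inv w := Subtype.ext (by group)
  map_mul' a b := Subtype.ext (by simp [mul_assoc])

omit [Fact p.Prime] in
theorem dsum_apply_one (φ : Subgroup.centralizer ({x} : Set G) → ℂ) (χ : IrrCharacter G) (j : ℕ) :
    dsum p x φ (j % p) χ = dsum p x φ j χ := by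
  rw [dsum, dsum, ← hx, pow_mod_orderOf]

variable {M : Ideal AlgInt} [M.IsPrime] (hM : IsPModular p M)
  {b : Set (IrrCharacter (Subgroup.centralizer ({x} : Set G)))}
  {φ : Subgroup.centralizer ({x} : Set G) → ℂ}

/-- Integral coefficients of the decomposition numbers. -/
theorem exists_coeff (hflat : IsFlat p b φ) :
    ∃ A : IrrCharacter G → ZMod p → ℤ, ∀ χ (j : ZMod p),
      dsum p x φ j.val χ = ∑ i, (A χ i : ℂ) * ZMod.stdAddChar (i * j) := by
  set xC : Subgroup.centralizer ({x} : Set G) :=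
    ⟨x, mem_centralizer_singleton.2 (Commute.refl x)⟩ with hxC
  have hcen : ∀ g : Subgroup.centralizer ({x} : Set G), g * xC = xC * g :=
    fun g => Subtype.ext (mem_centralizer_singleton.1 g.2).eq
  have hom : ∀ η : IrrCharacter (Subgroup.centralizer ({x} : Set G)), ∃ i : ZMod p, ∀ j : ℕ,
      (η : Subgroup.centralizer ({x} : Set G) → ℂ) (xC ^ j) / (η : Subgroup.centralizer ({x} : Set G) → ℂ) 1 = ZMod.stdAddChar (i * (j : ZMod p)) := by
    intro η
    have h1 := Char.IsIrr.apply_one_ne_zero η.2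
    set r := (η : Subgroup.centralizer ({x} : Set G) → ℂ) xC / (η : Subgroup.centralizer ({x} : Set G) → ℂ) 1 with hr
    have hm : ∀ m : ℕ, r ^ m = (η : Subgroup.centralizer ({x} : Set G) → ℂ) (xC ^ m) / (η : Subgroup.centralizer ({x} : Set G) → ℂ) 1 := by
      intro m
      induction m with
      | zero => rw [pow_zero, pow_zero, div_self h1]
      | succ m ih =>
        rw [pow_succ', pow_succ', ih, hr]
        have h2 := apply_central_mul η hcen (xC ^ m)
        field_simp
        linear_combination -h2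
    have hz : IsPrimitiveRoot (ZMod.stdAddChar (1 : ZMod p) : ℂ) p := by
      refine IsPrimitiveRoot.mk_of_lt _ (Fact.out : p.Prime).pos ?_ fun l hl0 hl hl1 => ?_
      · rw [← AddChar.map_nsmul_eq_pow, nsmul_eq_mul, mul_one, ZMod.natCast_self, AddChar.map_zero_eq_one]
      · rw [← AddChar.map_nsmul_eq_pow, nsmul_eq_mul, mul_one,
          ← AddChar.map_zero_eq_one (ZMod.stdAddChar (N := p))] at hl1
        have hd := (ZMod.natCast_eq_zero_iff _ _).1 (ZMod.injective_stdAddChar hl1)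
        exact absurd (Nat.le_of_dvd hl0 hd) (by omega)
    obtain ⟨i, -, hi⟩ := hz.eq_pow_of_pow_eq_one (ξ := r) (by
      rw [hm, show xC ^ p = 1 from Subtype.ext (by
        rw [SubmonoidClass.coe_pow]; exact hx ▸ pow_orderOf_eq_one x), div_self h1])
    refine ⟨(i : ZMod p), fun j => ?_⟩
    rw [← hm, ← hi, ← pow_mul, ← AddChar.map_nsmul_eq_pow, nsmul_eq_mul, mul_one, Nat.cast_mul]
  choose ι hι using hom
  choose cnt hcnt using fun (χ : IrrCharacter G)
      (η : IrrCharacter (Subgroup.centralizer ({x} : Set G))) =>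
    Char.IsChar.classInner_eq_natCast
      (Char.IsChar.restrict (Subgroup.centralizer ({x} : Set G)) (Char.IsIrr.isCharacter χ.2))
      (Char.IsIrr.isCharacter η.2)
  refine ⟨fun χ i => ∑ η ∈ (Set.toFinite b).toFinset, if ι η = i then (cnt χ η : ℤ) else 0,
    fun χ j => ?_⟩
  have hin : ∀ η : IrrCharacter (Subgroup.centralizer ({x} : Set G)),
      classInner (fun w : Subgroup.centralizer ({x} : Set G) => (χ : G → ℂ) (x ^ j.val * (w : G)))
        (η : Subgroup.centralizer ({x} : Set G) → ℂ) = ZMod.stdAddChar (ι η * j) * (cnt χ η : ℂ) := fun η => by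
    rw [show j = ((j.val : ℕ) : ZMod p) from (ZMod.natCast_zmod_val j).symm, ← hι, ← hcnt,
      ZMod.natCast_zmod_val]
    exact classInner_translate (fun c : Subgroup.centralizer ({x} : Set G) => (χ : G → ℂ) c) η
      (z := xC ^ j.val) fun g => ((show Commute g xC from hcen g).pow_right _).eq
  rw [dsum, ← hflat.sum_classInner (fun w => (χ : G → ℂ) (x ^ j.val * (w : G))),
    finsum_mem_eq_finite_toFinset_sum _ (Set.toFinite b), Finset.sum_congr rfl fun η _ => hin η]
  push_cast
  simp only [Finset.sum_mul, ite_mul, zero_mul]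
  rw [Finset.sum_comm]
  refine Finset.sum_congr rfl fun η _ => ?_
  rw [Finset.sum_ite_eq, if_pos (Finset.mem_univ _), mul_comm]

include hM

variable {B : Set (IrrCharacter G)}
  (hind : IsInducedBlock M (Subgroup.centralizer ({x} : Set G)) b B)

include hind in
/-- The column vanishes outside the block. -/
theorem dsum_eq_zero_of_not_mem (hflat : IsFlat p b φ) (hφ : φ 1 ≠ 0) {χ : IrrCharacter G}
    (hχ : χ ∉ B) {j : ZMod p} (hj : j ≠ 0) : dsum p x φ j.val χ = 0 := by
  have key : ∀ (u : G) (H : Subgroup G), H = Subgroup.centralizer ({u} : Set G) →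
      (∃ k : ℕ, orderOf u = p ^ k) → ∀ f : Set (IrrCharacter H), IsPBlock M f →
        ¬ IsInducedBlock M H f (blockOf M (χ : G → ℂ)) →
          blockPart f (fun c : H => (χ : G → ℂ) (u * (c : G))) 1 = 0 := by
    rintro u H rfl hu f hf hn
    exact blockPart_eq_zero_of_not_induced hM hu (isPBlock_blockOf χ) (mem_blockOf_self χ) hf hn
      (by rw [orderOf_one]; exact hM.1.not_dvd_one)
  have h := key (x ^ j.val) _ (centralizer_pow_val hx hj).symm ⟨1, by rw [orderOf_pow_val hx hj, pow_one]⟩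
    b (isInducedBlock_iff.1 hind).1 fun h => hχ (IsInducedBlock.eq hind h ▸ mem_blockOf_self χ)
  rw [hflat.blockPart_eq_mul _ (by rw [orderOf_one]; exact hM.1.not_dvd_one)] at h
  exact (mul_eq_zero.1 h).resolve_left hφ

omit hM in
/-- The column is orthogonal to the regular values. -/
theorem sum_dsum_regular [Fintype (IrrCharacter G)] {j : ZMod p} (hj : j ≠ 0) {y : G}
    (hy : ¬ p ∣ orderOf y) :
    ∑ χ : IrrCharacter G, dsum p x φ j.val χ * conj ((χ : G → ℂ) y) = 0 := by
  simp only [dsum, Finset.mul_sum, Finset.sum_mul]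
  rw [Finset.sum_comm]
  refine Finset.sum_eq_zero fun w hw => ?_
  have h0 : ∑ χ : IrrCharacter G, (χ : G → ℂ) (x ^ j.val * (w : G)) * conj ((χ : G → ℂ) y) = 0 := by
    rw [sum_mul_conj_eq_card, Nat.cast_eq_zero, Finset.card_eq_zero, Finset.filter_eq_empty_iff]
    intro g _ hg
    refine hy ?_
    rw [← hg, show g * (x ^ j.val * (w : G)) * g⁻¹ = MulAut.conj g (x ^ j.val * w) from rfl,
      MulEquiv.orderOf_eq]
    refine (IsPPart.dvd_orderOf_iff (Fact.out : p.Prime) (u := x ^ j.val) ⟨w, rfl,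
      ((mem_centralizer_singleton.1 w.2).symm.pow_left _), ⟨1, by rw [orderOf_pow_val hx hj, pow_one]⟩,
      by rw [Subgroup.orderOf_coe]; exact (Finset.mem_filter.1 hw).2⟩).2 fun e => ?_
    have := orderOf_pow_val hx hj
    rw [e, orderOf_one] at this
    exact (Fact.out : p.Prime).one_lt.ne this
  rw [Finset.sum_congr rfl (g := fun χ : IrrCharacter G =>
    ((p : ℂ) / (Nat.card (Subgroup.centralizer ({x} : Set G)) : ℂ) * conj (φ w)) *
      ((χ : G → ℂ) (x ^ j.val * (w : G)) * conj ((χ : G → ℂ) y))) fun χ _ => by ring,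
    ← Finset.mul_sum, h0, mul_zero]

/-- The condition for the columns at `x ^ j` and `x ^ (j * h)` to coincide. -/
def Stab (p : ℕ) (x : G) (φ : Subgroup.centralizer ({x} : Set G) → ℂ) (h : ZMod p) : Prop :=
  ∃ g : G, g * x * g⁻¹ = x ^ h.val ∧
    ∃ e : Subgroup.centralizer ({x} : Set G) ≃* Subgroup.centralizer ({x} : Set G),
      (∀ w, (e w : G) = g * w * g⁻¹) ∧
      ∑ w ∈ Finset.univ.filter (fun w : Subgroup.centralizer ({x} : Set G) => ¬ p ∣ orderOf w),
        conj (φ w) * φ (e w) ≠ 0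

/-- The orthogonality of the columns. -/
theorem sum_dsum_mul [Fintype (IrrCharacter G)] (hb : IsPBlock M b)
    {η₀ : IrrCharacter (Subgroup.centralizer ({x} : Set G))} (hη₀ : η₀ ∈ b)
    (hflat : IsFlat p b (η₀ : Subgroup.centralizer ({x} : Set G) → ℂ)) {j i : ZMod p} (hj : j ≠ 0) (hi : i ≠ 0) :
    ∑ χ : IrrCharacter G, dsum p x (η₀ : Subgroup.centralizer ({x} : Set G) → ℂ) j.val χ * conj (dsum p x (η₀ : Subgroup.centralizer ({x} : Set G) → ℂ) i.val χ) =
      if Stab p x (η₀ : Subgroup.centralizer ({x} : Set G) → ℂ) (i / j) then (p : ℂ) else 0 := by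
  set R := Finset.univ.filter (fun w : Subgroup.centralizer ({x} : Set G) => ¬ p ∣ orderOf w) with hR
  set c : ℂ := (p : ℂ) / (Nat.card (Subgroup.centralizer ({x} : Set G)) : ℂ) with hc
  set φ₀ : Subgroup.centralizer ({x} : Set G) → ℂ := (η₀ : Subgroup.centralizer ({x} : Set G) → ℂ)
  set T := Finset.univ.filter (fun g : G => g * x * g⁻¹ = x ^ (i / j).val) with hT
  have hh : i / j ≠ 0 := div_ne_zero hi hj
  have hcnt : ∀ w ∈ R, ∀ w' ∈ R,
      ∑ χ : IrrCharacter G, (χ : G → ℂ) (x ^ j.val * (w : G)) *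
        conj ((χ : G → ℂ) (x ^ i.val * (w' : G))) =
      ((T.filter fun g => g * (w : G) * g⁻¹ = (w' : G)).card : ℂ) := by
    intro w hw w' hw'
    rw [sum_mul_conj_eq_card]
    congr 2
    ext g
    simp only [Finset.mem_filter, Finset.mem_univ, true_and, hT]
    have hpp : ∀ (k : ZMod p), k ≠ 0 → ∀ v : Subgroup.centralizer ({x} : Set G), v ∈ R →
        IsPPart p (x ^ k.val * (v : G)) (x ^ k.val) := fun k hk v hv => ⟨v, rfl,
      ((mem_centralizer_singleton.1 v.2).symm.pow_left _), ⟨1, by rw [orderOf_pow_val hx hk, pow_one]⟩,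
      by rw [Subgroup.orderOf_coe]; exact (Finset.mem_filter.1 hv).2⟩
    constructor
    · intro hg
      have h1 := conj_pPart_eq hM.1 (hpp j hj w hw) (hpp i hi w' hw') (x := g⁻¹) (j := 1)
        (by simpa using hM.1.ne_one) (by rw [pow_one, pow_one, ← hg]; group)
      rw [inv_inv] at h1
      have h2 : g * x * g⁻¹ = x ^ (i / j).val := by
        have e : x = (x ^ j.val) ^ (j⁻¹).val := by
          rw [← pow_val_mul hx, mul_inv_cancel₀ hj, ZMod.val_one, pow_one]
        conv_lhs => rw [e, ← conj_pow, h1]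
        rw [← pow_val_mul hx, div_eq_mul_inv]
      refine ⟨h2, mul_left_cancel (a := x ^ i.val) ?_⟩
      calc x ^ i.val * (g * (w : G) * g⁻¹) = g * x ^ j.val * g⁻¹ * (g * w * g⁻¹) := by rw [h1]
        _ = g * (x ^ j.val * w) * g⁻¹ := by group
        _ = _ := hg
    · rintro ⟨hg, hgw⟩
      have h1 : g * x ^ j.val * g⁻¹ = x ^ i.val := by
        rw [← conj_pow, hg, ← pow_val_mul hx, div_mul_cancel₀ i hj]
      calc g * (x ^ j.val * (w : G)) * g⁻¹ = g * x ^ j.val * g⁻¹ * (g * w * g⁻¹) := by group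
        _ = _ := by rw [h1, hgw]
  have hE : ∀ g : G, g ∈ T → ∑ w ∈ R, ∑ w' ∈ R,
      (if g * (w : G) * g⁻¹ = (w' : G) then conj (φ₀ w) * φ₀ w' else 0) =
      if hg : g * x * g⁻¹ = x ^ (i / j).val then
        ∑ w ∈ R, conj (φ₀ w) * φ₀ (conjC hx hh hg w) else 0 := by
    intro g hg
    rw [dif_pos (Finset.mem_filter.1 hg).2]
    refine Finset.sum_congr rfl fun w hw => ?_
    rw [Finset.sum_eq_single_of_mem (conjC hx hh (Finset.mem_filter.1 hg).2 w)]
    · exact if_pos rfl
    · simp only [hR, Finset.mem_filter, Finset.mem_univ, true_and] at hw ⊢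
      rwa [MulEquiv.orderOf_eq]
    · intro w' _ hne
      exact if_neg fun e => hne (Subtype.ext e.symm)
  have hval : ∀ (g : G) (hg : g * x * g⁻¹ = x ^ (i / j).val),
      c * ∑ w ∈ R, conj (φ₀ w) * φ₀ (conjC hx hh hg w) = 1 ∨
        ∑ w ∈ R, conj (φ₀ w) * φ₀ (conjC hx hh hg w) = 0 := by
    intro g hg
    set η₁ := pullEquiv (conjC hx hh hg) η₀ with hη₁
    by_cases h1 : η₁ ∈ b
    · refine Or.inl ?_
      rw [Finset.sum_congr rfl (g := fun w => φ₀ w * conj (φ₀ w)) fun w hw => ?_]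
      · exact hflat.sum_regular_norm hη₀
      rw [mul_comm]
      congr 1
      exact hflat.regular η₁ h1 w (Finset.mem_filter.1 hw).2
    · refine Or.inr ?_
      have h2 := sum_regular_eq_zero hM (χ := η₁) (ψ := η₀) fun hs => h1 (by
        rw [IsPBlock.eq_blockOf hb hη₀]
        exact SameBlock.symm' hs)
      rw [← h2]
      refine Finset.sum_congr rfl fun w _ => ?_
      rw [Char.IsIrr.map_inv η₀.2, mul_comm]
      rfl
  have hmain : ∑ χ : IrrCharacter G, dsum p x φ₀ j.val χ * conj (dsum p x φ₀ i.val χ) =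
      c * c * ∑ g ∈ T, ∑ w ∈ R, ∑ w' ∈ R,
        (if g * (w : G) * g⁻¹ = (w' : G) then conj (φ₀ w) * φ₀ w' else 0) := by
    calc _ = c * c * ∑ w ∈ R, ∑ w' ∈ R, conj (φ₀ w) * φ₀ w' *
          ∑ χ : IrrCharacter G, (χ : G → ℂ) (x ^ j.val * (w : G)) *
            conj ((χ : G → ℂ) (x ^ i.val * (w' : G))) := by
            have hcc : conj c = c := by simp [hc]
            simp only [dsum, ← hc, ← hR, map_mul, map_sum, Complex.conj_conj, hcc, Finset.mul_sum,
              Finset.sum_mul]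
            rw [Finset.sum_comm]
            refine ((Finset.sum_congr rfl fun w _ => Finset.sum_comm).trans Finset.sum_comm).trans ?_
            exact Finset.sum_congr rfl fun w _ => Finset.sum_congr rfl fun w' _ =>
              Finset.sum_congr rfl fun χ _ => by ring
      _ = _ := by
            congr 1
            rw [Finset.sum_comm (s := T)]
            refine Finset.sum_congr rfl fun w hw => ?_
            rw [Finset.sum_comm (s := T)]
            refine Finset.sum_congr rfl fun w' hw' => ?_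
            rw [hcnt w hw w' hw', ← Finset.sum_filter, Finset.sum_const, nsmul_eq_mul, mul_comm]
  rw [hmain, Finset.sum_congr rfl hE]
  by_cases hS : Stab p x φ₀ (i / j)
  · rw [if_pos hS]
    obtain ⟨g₀, hg₀, e, he, hne⟩ := hS
    have heq : ∀ g ∈ T, (if hg : g * x * g⁻¹ = x ^ (i / j).val then
        ∑ w ∈ R, conj (φ₀ w) * φ₀ (conjC hx hh hg w) else 0) =
        ∑ w ∈ R, conj (φ₀ w) * φ₀ (e w) := by
      intro g hg
      have hg' := (Finset.mem_filter.1 hg).2
      rw [dif_pos hg']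
      have hk : g₀⁻¹ * g ∈ Subgroup.centralizer ({x} : Set G) := by
        refine mem_centralizer_singleton.2 ?_
        show g₀⁻¹ * g * x = x * (g₀⁻¹ * g)
        calc g₀⁻¹ * g * x = g₀⁻¹ * (g * x * g⁻¹) * g := by group
          _ = g₀⁻¹ * (g₀ * x * g₀⁻¹) * g := by rw [hg', hg₀]
          _ = _ := by group
      refine Finset.sum_congr rfl fun w _ => congrArg _ ?_
      have h1 : conjC hx hh hg' w = e (⟨_, hk⟩ * w * ⟨_, hk⟩⁻¹) := Subtype.ext (by
        rw [he]
        show g * (w : G) * g⁻¹ = g₀ * (g₀⁻¹ * g * w * (g₀⁻¹ * g)⁻¹) * g₀⁻¹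
        group)
      rw [h1]
      exact Char.IsIrr.isClassFunction (pullEquiv e η₀).2 w ⟨_, hk⟩
    have hcard : T.card = Nat.card (Subgroup.centralizer ({x} : Set G)) := by
      rw [Nat.card_eq_fintype_card, ← Finset.card_univ]
      symm
      refine Finset.card_bij (fun z _ => g₀ * (z : G)) (fun z _ => ?_)
        (fun _ _ _ _ e => Subtype.ext (mul_left_cancel e)) fun g hg => ?_
      · refine Finset.mem_filter.2 ⟨Finset.mem_univ _, ?_⟩
        calc g₀ * (z : G) * x * (g₀ * (z : G))⁻¹ = g₀ * ((z : G) * x * (z : G)⁻¹) * g₀⁻¹ := by group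
          _ = _ := by rw [(mem_centralizer_singleton.1 z.2).eq, mul_inv_cancel_right, hg₀]
      · refine ⟨⟨g₀⁻¹ * g, mem_centralizer_singleton.2 ?_⟩, Finset.mem_univ _, by simp⟩
        show g₀⁻¹ * g * x = x * (g₀⁻¹ * g)
        calc g₀⁻¹ * g * x = g₀⁻¹ * (g * x * g⁻¹) * g := by group
          _ = g₀⁻¹ * (g₀ * x * g₀⁻¹) * g := by rw [(Finset.mem_filter.1 hg).2, hg₀]
          _ = _ := by group
    rw [Finset.sum_congr rfl heq, Finset.sum_const, nsmul_eq_mul, hcard]
    have hI : c * ∑ w ∈ R, conj (φ₀ w) * φ₀ (e w) = 1 := by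
      rcases hval g₀ hg₀ with h | h
      · rw [← h]
        refine congrArg _ (Finset.sum_congr rfl fun w _ => congrArg _ (congrArg φ₀ (Subtype.ext ?_)))
        rw [he]
        rfl
      · refine absurd (Eq.trans (Finset.sum_congr rfl fun w _ => ?_) h) hne
        exact congrArg _ (congrArg φ₀ (Subtype.ext (by rw [he]; rfl)))
    rw [show c * c * ((Nat.card (Subgroup.centralizer ({x} : Set G)) : ℂ) *
        ∑ w ∈ R, conj (φ₀ w) * φ₀ (e w)) = c * (Nat.card (Subgroup.centralizer ({x} : Set G)) : ℂ) *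
        (c * ∑ w ∈ R, conj (φ₀ w) * φ₀ (e w)) by ring, hI, mul_one, hc,
      div_mul_cancel₀ _ (Nat.cast_ne_zero.2 Nat.card_pos.ne')]
  · rw [if_neg hS, Finset.sum_eq_zero fun g hg => ?_, mul_zero]
    rw [dif_pos (Finset.mem_filter.1 hg).2]
    by_contra hne
    exact hS ⟨g, (Finset.mem_filter.1 hg).2, conjC hx hh (Finset.mem_filter.1 hg).2, fun w => rfl, hne⟩

include hind in
/-- A combination of `B` killed by all columns vanishes on singular elements. -/
theorem sum_apply_eq_zero (hD : IsDefectGroup p M B (Subgroup.zpowers x)) (hflat : IsFlat p b φ)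
    (u : IrrCharacter G → ℂ)
    (hu : ∀ j : ZMod p, j ≠ 0 →
      ∑ χ ∈ (Set.toFinite B).toFinset, u χ * dsum p x φ j.val χ = 0)
    {g : G} (hg : p ∣ orderOf g) :
    ∑ χ ∈ (Set.toFinite B).toFinset, u χ * (χ : G → ℂ) g = 0 := by
  obtain ⟨hb, hB, -⟩ := isInducedBlock_iff.1 hind
  have hmemB : ∀ {χ}, χ ∈ (Set.toFinite B).toFinset → χ ∈ B :=
    fun hχ => (Set.Finite.mem_toFinset _).1 hχ
  by_cases hall : ∀ χ ∈ (Set.toFinite B).toFinset, (χ : G → ℂ) g = 0
  · exact Finset.sum_eq_zero fun χ hχ => by rw [hall χ hχ, mul_zero]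
  push Not at hall
  obtain ⟨χ₀, hχ₀, hne⟩ := hall
  obtain ⟨z, hz⟩ := exists_pPart hM.1 g
  obtain ⟨D', hD', hzD⟩ : ∃ D', IsDefectGroup p M B D' ∧ z ∈ D' := by
    by_contra hcon
    push Not at hcon
    exact hne (apply_eq_zero_of_pPart_notMem hM hB (hmemB hχ₀) hz fun D' hD' => hcon D' hD')
  obtain ⟨c, hc⟩ := IsDefectGroup.exists_conj hM hB hD' hD
  obtain ⟨n, hn⟩ : ∃ n : ℕ, c * z * c⁻¹ = x ^ n := by
    obtain ⟨n, hn⟩ := mem_powers_iff_mem_zpowers.2
      (hc.le ⟨z, hzD, rfl⟩ : MulAut.conj c z ∈ Subgroup.zpowers x)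
    exact ⟨n, hn.symm⟩
  obtain ⟨y, hy, hzy, hzo, hyo⟩ := hz
  set j : ZMod p := (n : ZMod p) with hjdef
  have hjx : x ^ j.val = c * z * c⁻¹ := by rw [hn, hjdef, pow_val_natCast hx]
  have hj : j ≠ 0 := by
    intro h
    have hz1 : z = 1 := by
      have := hjx
      rw [h, ZMod.val_zero, pow_zero] at this
      exact conj_eq_one_iff.1 this.symm
    exact (IsPPart.dvd_orderOf_iff hM.1 ⟨y, hy, hzy, hzo, hyo⟩).1 hg hz1
  have hwC : c * y * c⁻¹ ∈ Subgroup.centralizer ({x} : Set G) := by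
    refine mem_centralizer_singleton.2 (commute_of_commute_pow hx hj ?_)
    rw [hjx]
    exact (hzy.map (MulAut.conj c).toMonoidHom).symm
  set w : Subgroup.centralizer ({x} : Set G) := ⟨_, hwC⟩ with hwdef
  have hw : ¬ p ∣ orderOf w := by
    rw [← Subgroup.orderOf_coe, show ((w : Subgroup.centralizer ({x} : Set G)) : G) = MulAut.conj c y
      from rfl, MulEquiv.orderOf_eq]
    exact hyo
  have hgw : ∀ χ : IrrCharacter G, (χ : G → ℂ) g = (χ : G → ℂ) (x ^ j.val * (w : G)) := fun χ => by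
    rw [hjx, hwdef, show c * z * c⁻¹ * (c * y * c⁻¹) = c * (z * y) * c⁻¹ by group, hy,
      Char.IsIrr.isClassFunction χ.2]
  have key : ∀ (v : G) (H : Subgroup G) [Fintype (IrrCharacter H)],
      H = Subgroup.centralizer ({v} : Set G) → (∃ k : ℕ, orderOf v = p ^ k) →
      ∀ (χ : IrrCharacter G), χ ∈ B → ∀ y' : H, ¬ p ∣ orderOf y' →
        (χ : G → ℂ) (v * (y' : G)) = ∑ f ∈ ((Finset.univ.image fun ψ : IrrCharacter H =>
          blockOf M (ψ : H → ℂ)).filter fun f => IsInducedBlock M H f B),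
            blockPart f (fun c : H => (χ : G → ℂ) (v * (c : G))) y' := by
    intro v H _ hH hv χ hχ y' hy'
    subst hH
    exact apply_mul_eq_sum_blockPart hM hv hB hχ hy'
  have := Fintype.ofFinite (IrrCharacter (Subgroup.centralizer ({x} : Set G)))
  rw [Finset.sum_congr rfl fun χ hχ => by
    rw [hgw χ, key _ _ (centralizer_pow_val hx hj).symm ⟨1, by rw [orderOf_pow_val hx hj, pow_one]⟩
      χ (hmemB hχ) w hw, Finset.mul_sum]]
  rw [Finset.sum_comm]
  refine Finset.sum_eq_zero fun f hf => ?_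
  -- the roots are conjugate
  have hzC : Subgroup.centralizer ((Subgroup.zpowers x : Subgroup G) : Set G) =
      Subgroup.centralizer ({x} : Set G) := by
    rw [Subgroup.zpowers_eq_closure, Subgroup.centralizer_closure]
  have hxC : x ∈ Subgroup.centralizer ({x} : Set G) := mem_centralizer_singleton.2 (Commute.refl x)
  obtain ⟨t₀, ht₀, e, he, rfl⟩ := exists_normalizer_conj_root hM (Subgroup.zpowers_le.2 hxC) hzC.le
    (hzC ▸ centralizer_le_normalizer' _) (by
      refine ⟨fun a ha t => ?_⟩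
      rw [Subgroup.mem_subgroupOf, ← hzC] at ha ⊢
      exact Subgroup.mem_normalizer_iff.1
        (CfsgLib.Pairs.normalizer_le_normalizer_centralizer (Subgroup.zpowers x) t.2) (a : G) |>.1 ha)
    hD hind (Finset.mem_filter.1 hf).2
  obtain ⟨s, hs⟩ : ∃ s : ℕ, t₀ * x * t₀⁻¹ = x ^ s := by
    obtain ⟨s, hs⟩ := mem_powers_iff_mem_zpowers.2
      ((Subgroup.mem_normalizer_iff.1 ht₀ x).1 (Subgroup.mem_zpowers x))
    exact ⟨s, hs.symm⟩
  set t : ZMod p := (s : ZMod p)
  have htx : t₀ * x ^ j.val * t₀⁻¹ = x ^ (t * j).val := by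
    rw [← conj_pow, hs, pow_val_mul hx, pow_val_natCast hx]
  have htj : t * j ≠ 0 := by
    intro h
    rw [h, ZMod.val_zero, pow_zero, conj_eq_one_iff] at htx
    have := orderOf_pow_val hx hj
    rw [htx, orderOf_one] at this
    exact hM.1.one_lt.ne this
  have hflat' := hflat.image_pull e
  rw [Finset.sum_congr rfl fun χ _ => by rw [hflat'.blockPart_eq_mul _ hw]]
  have hd : ∀ χ : IrrCharacter G, (p : ℂ) / (Nat.card (Subgroup.centralizer ({x} : Set G)) : ℂ) *
      ∑ v ∈ Finset.univ.filter (fun v : Subgroup.centralizer ({x} : Set G) => ¬ p ∣ orderOf v),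
        (χ : G → ℂ) (x ^ j.val * (v : G)) * conj (φ (e v)) = dsum p x φ (t * j).val χ := by
    intro χ
    rw [dsum]
    congr 1
    refine Finset.sum_equiv e.toEquiv (fun v => ?_) fun v _ => ?_
    · simp
    · simp only [MulEquiv.toEquiv_eq_coe, EquivLike.coe_coe]
      rw [he, ← htx, show t₀ * x ^ j.val * t₀⁻¹ * (t₀ * (v : G) * t₀⁻¹) =
        t₀ * (x ^ j.val * v) * t₀⁻¹ by group, Char.IsIrr.isClassFunction χ.2]
  rw [Finset.sum_congr rfl (g := fun χ => φ (e w) * (u χ * dsum p x φ (t * j).val χ)) fun χ _ => by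
    rw [hd χ]; ring, ← Finset.mul_sum, hu _ htj, mul_zero]

end CfsgLib.DefectOne
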