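import Cfsg.Agent.Lib.Blocks.DefectOne.Combin
import Cfsg.Agent.Lib.Blocks.DefectOne.Section
import Cfsg.Agent.Lib.Blocks.InertialHeight
import Cfsg.Agent.Lib.Blocks.Knorr

/-!
# Blocks of defect one

Brauer's theorem in the form needed for counting: such a block has at most `p` irreducible
characters, and the regular form scaled by `p` is zero or at least the rank of the block on every
integral vector.
-/

set_option autoImplicit false

namespace CfsgLib.DefectOne

open Cfsg CfsgLib.Blocks CfsgLib.Blocks.SubForm CfsgLib.Char CfsgLib.CharAction CfsgLib.CycloTrace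
open scoped ComplexConjugate Classical

variable {G : Type*} [Group G] [Fintype G] {p : ℕ} [Fact p.Prime] {M : Ideal AlgInt} [M.IsPrime]
  (hM : IsPModular p M)
include hM

/-- A central element of a defect group lies in a major subsection. -/
theorem exists_major_central {B : Set (IrrCharacter G)} (hB : IsPBlock M B) {D : Subgroup G}
    (hD : IsDefectGroup p M B D) {x : G} (hxD : x ∈ D) (hx : ∀ u ∈ D, u * x = x * u) :
    ∃ c : Set (IrrCharacter (Subgroup.centralizer ({x} : Set G))),
      IsInducedBlock M (Subgroup.centralizer ({x} : Set G)) c B ∧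
      blockDefect p c = blockDefect p B ∧
      IsDefectGroup p M c (D.subgroupOf (Subgroup.centralizer ({x} : Set G))) := by
  have := Fintype.ofFinite (D ⊔ Subgroup.centralizer (D : Set G) : Subgroup G)
  obtain ⟨b, hb⟩ := (exists_inducing_iff_subConj hM (H := D ⊔ Subgroup.centralizer (D : Set G))
    (IsDefectGroup.isPGroup hD) le_sup_left le_sup_right
    (sup_le Subgroup.le_normalizer (centralizer_le_normalizer' D)) hB hD).2 (SubConj.of_le le_rfl)
  obtain ⟨c, h1, h2, -, h3⟩ := exists_major hM hD rfl hb hxD hx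
  exact ⟨c, h1, h2, h3⟩

/-- Norm of a combination of irreducible characters. -/
theorem sum_sum_mul_conj (S : Finset (IrrCharacter G)) (w : IrrCharacter G → ℤ) :
    ∑ g : G, (∑ χ ∈ S, (w χ : ℂ) * (χ : G → ℂ) g) * conj (∑ χ ∈ S, (w χ : ℂ) * (χ : G → ℂ) g) =
      (Nat.card G : ℂ) * ((∑ χ ∈ S, w χ * w χ : ℤ) : ℂ) := by
  have h : ∀ χ ψ : IrrCharacter G, ∑ g : G, (χ : G → ℂ) g * conj ((ψ : G → ℂ) g) =
      if χ = ψ then (Nat.card G : ℂ) else 0 := fun χ ψ => by
    have h1 := Char.classInner_irr χ ψ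
    rw [classInner, inv_mul_eq_iff_eq_mul₀ (Nat.cast_ne_zero.2 Nat.card_pos.ne'), mul_ite, mul_one,
      mul_zero] at h1
    exact h1
  calc _ = ∑ χ ∈ S, ∑ ψ ∈ S, (w χ : ℂ) * (w ψ : ℂ) *
        ∑ g : G, (χ : G → ℂ) g * conj ((ψ : G → ℂ) g) := by
        simp only [map_sum, map_mul, map_intCast, Finset.mul_sum, Finset.sum_mul]
        rw [Finset.sum_comm]
        refine (Finset.sum_congr rfl fun χ _ => Finset.sum_comm).trans ?_
        refine Finset.sum_comm.trans ?_
        exact Finset.sum_congr rfl fun χ _ => Finset.sum_congr rfl fun ψ _ =>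
          Finset.sum_congr rfl fun g _ => by ring
    _ = _ := by
        push_cast
        simp only [h, mul_ite, mul_zero, Finset.sum_ite_eq, Finset.mul_sum]
        exact Finset.sum_congr rfl fun χ hχ => by rw [if_pos hχ]; ring

variable {B : Set (IrrCharacter G)} (hB : IsPBlock M B) (hd : blockDefect p B = 1)
include hB hd

/-- The number of characters and the least positive value of the regular form. -/
theorem card_le_and_form [Fintype (IrrCharacter G)] :
    Nat.card B ≤ p ∧ ∀ v : IrrCharacter G → ℤ,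
      form (formR p B) v = 0 ∨ (blockRank p B : ℤ) ≤ form (formR p B) v := by
  have hp := hM.1
  have hp0 : (p : ℂ) ≠ 0 := Nat.cast_ne_zero.2 hp.ne_zero
  obtain ⟨D, hD⟩ := exists_isDefectGroup (p := p) hB
  have hcard : Nat.card D = p := by rw [IsDefectGroup.card_eq hM hB hD, hd, pow_one]
  obtain ⟨⟨x, hxD⟩, hx'⟩ := exists_prime_orderOf_dvd_card' (G := D) p (by rw [hcard])
  have hx : orderOf x = p := (Subgroup.orderOf_mk x hxD).symm.trans hx'
  have hDx : D = Subgroup.zpowers x := (Subgroup.eq_of_le_of_card_ge (Subgroup.zpowers_le.2 hxD)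
    (by rw [hcard, Nat.card_zpowers, hx])).symm
  subst hDx
  obtain ⟨b, hind, -, hbD⟩ := exists_major_central hM hB hD hxD fun u hu => by
    obtain ⟨i, rfl⟩ := Subgroup.mem_zpowers_iff.1 hu
    exact ((Commute.refl x).zpow_left i).eq
  have := Fintype.ofFinite (IrrCharacter (Subgroup.centralizer ({x} : Set G)))
  obtain ⟨hb, -, -⟩ := isInducedBlock_iff.1 hind
  set xC : Subgroup.centralizer ({x} : Set G) :=
    ⟨x, mem_centralizer_singleton.2 (Commute.refl x)⟩ with hxC
  have hzp : Subgroup.zpowers xC =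
      (Subgroup.zpowers x).subgroupOf (Subgroup.centralizer ({x} : Set G)) := by
    ext w
    rw [Subgroup.mem_subgroupOf, Subgroup.mem_zpowers_iff, Subgroup.mem_zpowers_iff]
    exact exists_congr fun i => ⟨fun h => by rw [← h]; rfl, fun h => Subtype.ext (by rw [← h]; rfl)⟩
  obtain ⟨η₀, hη₀⟩ := IsPBlock.nonempty hb
  have hflat := isFlat hM hb (x := xC) (by rw [← Subgroup.orderOf_coe]; exact hx)
    (fun g => Subtype.ext (mem_centralizer_singleton.1 g.2).eq) (hzp ▸ hbD) hη₀
  set φ : Subgroup.centralizer ({x} : Set G) → ℂ :=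
    (η₀ : Subgroup.centralizer ({x} : Set G) → ℂ) with hφdef
  have hφ1 : φ 1 ≠ 0 := Char.IsIrr.apply_one_ne_zero η₀.2
  set d : ZMod p → IrrCharacter G → ℂ := fun j χ => dsum p x φ j.val χ with hddef
  set S := (Set.toFinite B).toFinset with hSdef
  set U := (Finset.univ : Finset (ZMod p)).erase 0 with hUdef
  obtain ⟨A, hA⟩ := exists_coeff hx hflat
  set ψ : AddChar (ZMod p) ℂ := ZMod.stdAddChar with hψdef
  have hψ : ∀ t : ZMod p, ∑ j, ψ (j * t) = if t = 0 then (p : ℂ) else 0 := fun t => by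
    rw [AddChar.sum_mulShift t (ZMod.isPrimitive_stdAddChar p), ZMod.card]
    split_ifs <;> simp
  let a : IrrCharacter G → ZMod p → ℤ := fun χ k => A χ k - A χ 0
  -- inversion
  have hdj : ∀ χ, ∀ j : ZMod p, j ≠ 0 → d j χ = ∑ i, (a χ i : ℂ) * ψ (i * j) := by
    intro χ j hj
    simp only [hddef, hA, a, Int.cast_sub, sub_mul, Finset.sum_sub_distrib, ← Finset.mul_sum,
      hψ, if_neg hj, mul_zero, sub_zero]
  have hinv : ∀ χ k, (p : ℂ) * (a χ k : ℂ) = ∑ j ∈ U, d j χ * (ψ (-(k * j)) - 1) := by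
    intro χ k
    rw [Finset.sum_congr rfl (g := fun j => (∑ i, (a χ i : ℂ) * ψ (i * j)) * (ψ (-(k * j)) - 1))
      fun j hj => by rw [hdj χ j (Finset.mem_erase.1 hj).1], hUdef,
      Finset.sum_erase _ (by simp)]
    simp only [Finset.sum_mul]
    rw [Finset.sum_comm, Finset.sum_congr rfl (g := fun i => (a χ i : ℂ) *
      ((if i - k = 0 then (p : ℂ) else 0) - if i = 0 then (p : ℂ) else 0)) fun i _ => ?_]
    · simp [sub_eq_zero, mul_sub, Finset.sum_sub_distrib, a, mul_comm, ← Finset.sum_mul]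
    rw [← hψ, ← hψ, ← Finset.sum_sub_distrib, Finset.mul_sum]
    refine Finset.sum_congr rfl fun j _ => ?_
    rw [show j * (i - k) = i * j + -(k * j) by ring, AddChar.map_add_eq_mul, mul_comm j i]
    ring
  have hout : ∀ χ, χ ∉ B → ∀ k, a χ k = 0 := by
    intro χ hχ k
    have h := hinv χ k
    rw [Finset.sum_eq_zero fun j hj => by
      simp only [hddef]
      rw [dsum_eq_zero_of_not_mem hx hM hind hflat hφ1 hχ (Finset.mem_erase.1 hj).1, zero_mul]] at h
    exact_mod_cast (mul_eq_zero.1 h).resolve_left hp0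
  have hred : ∀ f : IrrCharacter G → ℂ, (∀ χ, χ ∉ B → f χ = 0) →
      ∑ χ : IrrCharacter G, f χ = ∑ χ ∈ S, f χ := fun f hf =>
    (Finset.sum_subset (Finset.subset_univ S) fun χ _ hχ =>
      hf χ fun h => hχ ((Set.Finite.mem_toFinset _).2 h)).symm
  -- the stabilizer
  let K : ZMod p → Prop := Stab p x φ
  have horth : ∀ j i : ZMod p, j ≠ 0 → i ≠ 0 →
      ∑ χ : IrrCharacter G, d j χ * conj (d i χ) = if K (i / j) then (p : ℂ) else 0 :=
    fun j i hj hi => sum_dsum_mul hx hM hb hη₀ hflat hj hi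
  have hK1 : K 1 := by
    refine ⟨1, by rw [ZMod.val_one, pow_one]; group, MulEquiv.refl _, fun w => by simp, fun h => ?_⟩
    have h1 := hflat.sum_regular_norm hη₀
    rw [Finset.sum_congr rfl fun w _ => mul_comm _ _] at h1
    simp only [MulEquiv.coe_refl, id_eq] at h
    rw [h, mul_zero] at h1
    exact zero_ne_one h1
  have heq : ∀ j i : ZMod p, j ≠ 0 → i ≠ 0 → K (i / j) → ∀ χ, d j χ = d i χ := by
    intro j i hj hi hK χ
    have h0 : ∑ χ : IrrCharacter G, (d j χ - d i χ) * conj (d j χ - d i χ) = 0 := by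
      have e3 : ∑ χ : IrrCharacter G, d i χ * conj (d j χ) = (p : ℂ) := by
        have := congrArg conj ((horth j i hj hi).trans (if_pos hK))
        simpa [map_sum, mul_comm] using this
      simp only [map_sub, sub_mul, mul_sub, Finset.sum_sub_distrib, horth j j hj hj, horth i i hi hi,
        (horth j i hj hi).trans (if_pos hK), e3, div_self hj, div_self hi, if_pos hK1]
      ring
    simp only [Complex.mul_conj, ← Complex.ofReal_sum, Complex.ofReal_eq_zero] at h0
    rw [Finset.sum_eq_zero_iff_of_nonneg fun _ _ => Complex.normSq_nonneg _] at h0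
    exact sub_eq_zero.1 (Complex.normSq_eq_zero.1 (h0 χ (Finset.mem_univ χ)))
  let H : Subgroup (ZMod p)ˣ :=
    { carrier := {h | ∀ χ, ∀ j : ZMod p, j ≠ 0 → d (j * h) χ = d j χ}
      mul_mem' := fun {g h} hg hh χ j hj => by
        rw [Units.val_mul, ← mul_assoc, hh χ _ (mul_ne_zero hj g.ne_zero), hg χ j hj]
      one_mem' := fun χ j _ => by rw [Units.val_one, mul_one]
      inv_mem' := fun {h} hh χ j hj => by
        have := hh χ (j * (h⁻¹ : (ZMod p)ˣ)) (mul_ne_zero hj (Units.ne_zero _))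
        rw [mul_assoc, Units.inv_mul, mul_one] at this
        exact this.symm }
  have hKH : ∀ h : (ZMod p)ˣ, h ∈ H ↔ K (h : ZMod p) := by
    intro h
    constructor
    · intro hh
      by_contra hK
      have h1 := horth 1 h one_ne_zero h.ne_zero
      rw [div_one, if_neg hK, Finset.sum_congr rfl fun χ _ => by
        rw [show d (h : ZMod p) χ = d 1 χ by simpa using hh χ 1 one_ne_zero],
        horth 1 1 one_ne_zero one_ne_zero, div_one, if_pos hK1] at h1
      exact hp0 h1
    · intro hK χ j hj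
      exact (heq j (j * h) hj (mul_ne_zero hj h.ne_zero)
        (by rwa [mul_div_cancel_left₀ _ hj]) χ).symm
  set e : ℕ := Nat.card H
  have hgram : ∀ k l : (ZMod p)ˣ, ∑ χ : IrrCharacter G, a χ k * a χ l =
      (if l⁻¹ * k ∈ H then 1 else 0) + (e : ℤ) := by
    intro k l
    refine Int.cast_injective (α := ℂ) (mul_left_cancel₀ hp0 (mul_left_cancel₀ hp0 ?_))
    push_cast
    have h1 : (p : ℂ) * ((p : ℂ) * ∑ χ : IrrCharacter G, (a χ k : ℂ) * (a χ l : ℂ)) =
        ∑ χ : IrrCharacter G, (∑ j ∈ U, d j χ * (ψ (-((k : ZMod p) * j)) - 1)) *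
          conj (∑ i ∈ U, d i χ * (ψ (-((l : ZMod p) * i)) - 1)) := by
      simp only [← hinv, map_mul, map_natCast, map_intCast, Finset.mul_sum]
      exact Finset.sum_congr rfl fun χ _ => by ring
    have h2 : ∀ j ∈ U, ∀ i ∈ U, (if K (i / j) then (p : ℂ) else 0) =
        ∑ h : H, if i = j * ((h : (ZMod p)ˣ) : ZMod p) then (p : ℂ) else 0 := by
      intro j hj i hi
      have hj0 := (Finset.mem_erase.1 hj).1
      have hi0 := (Finset.mem_erase.1 hi).1
      have hq : i / j ≠ 0 := div_ne_zero hi0 hj0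
      by_cases hK : K (i / j)
      · have hm : Units.mk0 _ hq ∈ H := (hKH _).2 hK
        rw [if_pos hK, Finset.sum_eq_single_of_mem ⟨_, hm⟩ (Finset.mem_univ _)]
        · rw [if_pos]
          simp [mul_div_cancel₀ i hj0]
        · intro h _ hne
          exact if_neg fun hc => hne (Subtype.ext (Units.ext (by
            simp [hc, mul_div_cancel_left₀ _ hj0])))
      · rw [if_neg hK]
        refine (Finset.sum_eq_zero fun h _ => if_neg fun hc => hK ?_).symm
        rw [hc, mul_div_cancel_left₀ _ hj0]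
        exact (hKH _).1 h.2
    rw [h1]
    simp only [map_sum, map_mul, Finset.sum_mul_sum]
    rw [Finset.sum_comm, Finset.sum_congr rfl fun j _ => Finset.sum_comm]
    rw [Finset.sum_congr rfl (g := fun j => ∑ i ∈ U, (∑ h : H,
        if i = j * ((h : (ZMod p)ˣ) : ZMod p) then (p : ℂ) else 0) *
        ((ψ (-((k : ZMod p) * j)) - 1) * conj (ψ (-((l : ZMod p) * i)) - 1))) fun j hj =>
      Finset.sum_congr rfl fun i hi => ?_]
    swap
    · rw [← h2 j hj i hi, ← horth j i (Finset.mem_erase.1 hj).1 (Finset.mem_erase.1 hi).1,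
        Finset.sum_mul]
      exact Finset.sum_congr rfl fun χ _ => by ring
    simp only [Finset.sum_mul, ite_mul, zero_mul]
    rw [Finset.sum_congr rfl fun j _ => Finset.sum_comm, Finset.sum_comm]
    rw [Finset.sum_congr rfl (g := fun h : H => (p : ℂ) *
      ((if (l : ZMod p) * ((h : (ZMod p)ˣ) : ZMod p) - k = 0 then (p : ℂ) else 0) + p)) fun h _ => ?_]
    · rw [← Finset.mul_sum, Finset.sum_add_distrib, Finset.sum_const, Finset.card_univ,
        ← Nat.card_eq_fintype_card, nsmul_eq_mul]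
      congr 1
      rw [show ∑ h : H, (if (l : ZMod p) * ((h : (ZMod p)ˣ) : ZMod p) - k = 0 then (p : ℂ) else 0) =
        (p : ℂ) * if l⁻¹ * k ∈ H then 1 else 0 from ?_]
      · ring
      have hiff : ∀ h : (ZMod p)ˣ, (l : ZMod p) * (h : ZMod p) - k = 0 ↔ h = l⁻¹ * k := fun h => by
        rw [sub_eq_zero, ← Units.val_mul, ← Units.ext_iff]
        exact eq_inv_mul_iff_mul_eq.symm
      simp only [hiff]
      by_cases hm : l⁻¹ * k ∈ H
      · rw [if_pos hm, mul_one, Finset.sum_eq_single_of_mem ⟨_, hm⟩ (Finset.mem_univ _)]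
        · exact if_pos rfl
        · exact fun h _ hne => if_neg fun hc => hne (Subtype.ext hc)
      · rw [if_neg hm, mul_zero]
        exact Finset.sum_eq_zero fun h _ => if_neg fun hc => hm (by rw [← hc]; exact h.2)
    set hh := ((h : (ZMod p)ˣ) : ZMod p) with hhdef
    have hh0 : hh ≠ 0 := Units.ne_zero _
    rw [Finset.sum_congr rfl (g := fun j => (p : ℂ) *
        ((ψ (-((k : ZMod p) * j)) - 1) * conj (ψ (-((l : ZMod p) * (j * hh))) - 1))) fun j hj => by
      rw [Finset.sum_ite_eq', if_pos (Finset.mem_erase.2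
        ⟨mul_ne_zero (Finset.mem_erase.1 hj).1 hh0, Finset.mem_univ _⟩)],
      ← Finset.mul_sum, hUdef, Finset.sum_erase _ (by simp)]
    congr 1
    simp only [map_sub, map_one, ← AddChar.map_neg_eq_conj, neg_neg]
    have e1 : ∀ j, (ψ (-((k : ZMod p) * j)) - 1) * (ψ ((l : ZMod p) * (j * hh)) - 1) =
        ψ (j * ((l : ZMod p) * hh - k)) - ψ (j * (-(k : ZMod p))) - ψ (j * ((l : ZMod p) * hh)) +
          ψ (j * 0) := by
      intro j
      rw [show j * ((l : ZMod p) * hh - k) = -((k : ZMod p) * j) + (l : ZMod p) * (j * hh) by ring,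
        AddChar.map_add_eq_mul, mul_zero, AddChar.map_zero_eq_one,
        show j * -(k : ZMod p) = -((k : ZMod p) * j) by ring,
        show j * ((l : ZMod p) * hh) = (l : ZMod p) * (j * hh) by ring]
      ring
    simp only [e1, Finset.sum_add_distrib, Finset.sum_sub_distrib, hψ]
    simp only [if_neg (neg_ne_zero.2 k.ne_zero), if_neg (mul_ne_zero l.ne_zero hh0), if_true]
    ring
  -- invariance
  have hHinv : ∀ χ, ∀ k h : (ZMod p)ˣ, h ∈ H → a χ ((k * h : (ZMod p)ˣ) : ZMod p) = a χ k := by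
    intro χ k h hh
    refine Int.cast_injective (α := ℂ) (mul_left_cancel₀ hp0 ?_)
    rw [hinv, hinv]
    refine Finset.sum_equiv (Equiv.mulRight₀ (h : ZMod p) h.ne_zero) (fun j => ?_) fun j hj => ?_
    · simp [hUdef, h.ne_zero]
    · rw [Equiv.mulRight₀_apply, hh χ j (Finset.mem_erase.1 hj).1, Units.val_mul,
        show (k : ZMod p) * (j * (h : ZMod p)) = (k : ZMod p) * h * j by ring]
  -- the coefficient vectors on the block
  let J := (ZMod p)ˣ ⧸ H
  have : Fintype J := Fintype.ofFinite J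
  let ι := {χ : IrrCharacter G // χ ∈ B}
  let aJ : J → ι → ℤ := fun c χ => a χ.1 (Quotient.out c : (ZMod p)ˣ)
  have haJ : ∀ (k : (ZMod p)ˣ) (χ : ι), a χ.1 k = aJ (QuotientGroup.mk k) χ := by
    intro k χ
    obtain ⟨h, hh⟩ := QuotientGroup.mk_out_eq_mul H k
    show _ = a χ.1 _
    rw [hh, hHinv χ.1 k h h.2]
  have hsumι : ∀ f : IrrCharacter G → ℂ, ∑ χ ∈ S, f χ = ∑ χ : ι, f χ.1 := fun f =>
    (Finset.sum_subtype S (fun χ => Set.Finite.mem_toFinset _) f)
  have hgramJ : ∀ c c', ∑ i, aJ c i * aJ c' i = (if c = c' then 1 else 0) + (e : ℤ) := by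
    intro c c'
    have h1 := hgram (Quotient.out c) (Quotient.out c')
    have h2 : (Quotient.out c')⁻¹ * Quotient.out c ∈ H ↔ c = c' := by
      rw [← QuotientGroup.eq, QuotientGroup.out_eq', QuotientGroup.out_eq', eq_comm]
    rw [if_congr h2 rfl rfl, ← Finset.sum_subset (Finset.subset_univ S) fun χ _ hχ => by
      rw [hout χ fun h => hχ ((Set.Finite.mem_toFinset _).2 h), zero_mul]] at h1
    rw [← h1, Finset.sum_subtype S (fun χ => Set.Finite.mem_toFinset _)]
  have hem : (e : ℤ) * (Fintype.card J : ℤ) = (p : ℤ) - 1 := by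
    have h1 := Subgroup.card_eq_card_quotient_mul_card_subgroup H
    rw [Nat.card_eq_fintype_card, ZMod.card_units, Nat.card_eq_fintype_card (α := (ZMod p)ˣ ⧸ H)] at h1
    rw [← Nat.cast_one, ← Nat.cast_sub hp.one_lt.le, h1]
    push_cast
    ring
  -- orthogonality to the regular values
  have hreg : ∀ (k : ZMod p) {y : G}, ¬ p ∣ orderOf y →
      ∑ χ ∈ S, (a χ k : ℂ) * (χ : G → ℂ) y = 0 := by
    intro k y hy
    have h1 : ∑ χ : IrrCharacter G, (p : ℂ) * (a χ k : ℂ) * conj ((χ : G → ℂ) y) = 0 := by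
      simp only [hinv, Finset.sum_mul]
      rw [Finset.sum_comm]
      refine Finset.sum_eq_zero fun j hj => ?_
      rw [Finset.sum_congr rfl (g := fun χ : IrrCharacter G =>
        (ψ (-(k * j)) - 1) * (d j χ * conj ((χ : G → ℂ) y))) fun χ _ => by ring, ← Finset.mul_sum,
        sum_dsum_regular hx (Finset.mem_erase.1 hj).1 hy, mul_zero]
    rw [hred _ fun χ hχ => by rw [hout χ hχ, Int.cast_zero, mul_zero, zero_mul]] at h1
    have h2 := congrArg conj h1
    simp only [map_sum, map_mul, map_natCast, map_intCast, Complex.conj_conj, map_zero, mul_assoc,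
      ← Finset.mul_sum] at h2
    exact (mul_eq_zero.1 h2).resolve_left hp0
  -- vectors orthogonal to all columns
  have hsing : ∀ w : IrrCharacter G → ℤ, (∀ k : (ZMod p)ˣ, ∑ χ ∈ S, w χ * a χ k = 0) →
      ∀ g : G, p ∣ orderOf g → ∑ χ ∈ S, (w χ : ℂ) * (χ : G → ℂ) g = 0 := by
    intro w hw g hg
    refine sum_apply_eq_zero hx hM hind hD hflat (fun χ => (w χ : ℂ)) (fun j hj => ?_) hg
    show ∑ χ ∈ S, (w χ : ℂ) * d j χ = 0
    simp only [hdj _ j hj, Finset.mul_sum]
    rw [Finset.sum_comm]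
    refine Finset.sum_eq_zero fun i _ => ?_
    rw [Finset.sum_congr rfl (g := fun χ => ψ (i * j) * ((w χ : ℂ) * (a χ i : ℂ)))
      fun χ _ => by ring, ← Finset.mul_sum]
    rcases eq_or_ne i 0 with rfl | hi
    · simp [a]
    · have := congrArg (Int.cast (R := ℂ)) (hw (Units.mk0 i hi))
      push_cast at this
      rw [show ∑ χ ∈ S, (w χ : ℂ) * (a χ i : ℂ) = 0 from this, mul_zero]
  have hrow : ∀ i : ι, ∃ c, aJ c i ≠ 0 := by
    rintro ⟨χ, hχ⟩
    by_contra hcon
    push Not at hcon
    obtain ⟨g, hg, hne⟩ := exists_order_p_ne_zero hM hB hD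
      (fun h => by rw [h, Subgroup.card_bot] at hcard; exact hp.one_lt.ne hcard) hχ
    refine hne ?_
    have h := hsing (fun ξ => if ξ = χ then 1 else 0) (fun k => ?_) g hg.symm.dvd
    · simpa [hSdef, hχ] using h
    · simp only [ite_mul, one_mul, zero_mul, Finset.sum_ite_eq']
      rw [haJ k ⟨χ, hχ⟩, hcon]
      simp
  have hdeg : ∀ c, ∑ i : ι, aJ c i * (charDegree (i.1 : G → ℂ) : ℤ) = 0 := by
    intro c
    apply Int.cast_injective (α := ℂ)
    push_cast
    have h1 := hreg (Quotient.out c : (ZMod p)ˣ) (y := 1) (by rw [orderOf_one]; exact hp.not_dvd_one)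
    rw [hsumι] at h1
    simpa [apply_one_eq_charDegree] using h1
  obtain ⟨hk, hq⟩ := card_le_and_qform hp aJ hgramJ hem hrow
    (fun i : ι => Int.natCast_pos.2 (charDegree_pos i.1)) hdeg
  have hcardB : Nat.card B = Fintype.card ι := Nat.card_eq_fintype_card
  -- the form
  have hform : ∀ v : IrrCharacter G → ℤ,
      form (formR p B) v = qform (p : ℤ) (e : ℤ) aJ fun i => v i.1 := by
    intro v
    set u : J → ℤ := fun c => ∑ i : ι, aJ c i * v i.1
    set T : ℤ := ∑ c, u c with hT
    obtain ⟨t, ht⟩ : ∃ t : J → ℤ, ∀ c, t c = (p : ℤ) * u c - (e : ℤ) * T := ⟨_, fun _ => rfl⟩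
    let w : IrrCharacter G → ℤ := fun χ => if hχ : χ ∈ B then
      (p : ℤ) * v χ - ∑ c, t c * aJ c ⟨χ, hχ⟩ else 0
    have hwι : ∀ i : ι, w i.1 = (p : ℤ) * v i.1 - ∑ c, t c * aJ c i := fun i => dif_pos i.2
    have hsumZ : ∀ f : IrrCharacter G → ℤ, ∑ χ ∈ S, f χ = ∑ i : ι, f i.1 := fun f =>
      (Finset.sum_subtype S (fun χ => Set.Finite.mem_toFinset _) f)
    have hworth : ∀ c, ∑ i : ι, w i.1 * aJ c i = 0 := by
      intro c
      have h1 : ∑ i : ι, (∑ c', t c' * aJ c' i) * aJ c i = ∑ c', t c' * ∑ i : ι, aJ c' i * aJ c i := by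
        simp only [Finset.sum_mul, Finset.mul_sum, mul_assoc]
        exact Finset.sum_comm
      have h2 : ∑ c', t c' = (p : ℤ) * T - (Fintype.card J : ℤ) * ((e : ℤ) * T) := by
        simp only [ht, Finset.sum_sub_distrib, Finset.sum_const, Finset.card_univ, nsmul_eq_mul,
          ← Finset.mul_sum, ← hT]
      have h3 : ∑ i : ι, (p : ℤ) * v i.1 * aJ c i = (p : ℤ) * u c := by
        simp only [u, Finset.mul_sum]
        exact Finset.sum_congr rfl fun i _ => by ring
      simp only [hwι, sub_mul, Finset.sum_sub_distrib]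
      rw [h1, h3]
      simp only [hgramJ, mul_add, mul_ite, mul_one, mul_zero, Finset.sum_add_distrib, ← Finset.sum_mul]
      rw [Finset.sum_eq_single_of_mem c (Finset.mem_univ c) fun c' _ hne => if_neg hne, if_pos rfl]
      rw [ht, h2]
      linear_combination ((e : ℤ) * T) * hem
    have hwk : ∀ k : (ZMod p)ˣ, ∑ χ ∈ S, w χ * a χ k = 0 := fun k => by
      rw [hsumZ, ← hworth (QuotientGroup.mk k)]
      exact Finset.sum_congr rfl fun i _ => by rw [haJ k i]
    have hwreg : ∀ y : G, ¬ p ∣ orderOf y → ∑ χ ∈ S, (w χ : ℂ) * (χ : G → ℂ) y =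
        (p : ℂ) * ∑ χ ∈ S, (v χ : ℂ) * (χ : G → ℂ) y := by
      intro y hy
      rw [hsumι, hsumι]
      have h1 : ∑ i : ι, (∑ c, (t c : ℂ) * (aJ c i : ℂ)) * (i.1 : G → ℂ) y = 0 := by
        simp only [Finset.sum_mul, mul_assoc]
        rw [Finset.sum_comm]
        refine Finset.sum_eq_zero fun c _ => ?_
        have h0 := hreg (Quotient.out c : (ZMod p)ˣ) hy
        rw [hsumι] at h0
        rw [← Finset.mul_sum]
        exact (congrArg _ h0).trans (mul_zero _)
      simp only [hwι, Int.cast_sub, Int.cast_mul, Int.cast_natCast, Int.cast_sum, sub_mul,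
        Finset.sum_sub_distrib, h1, sub_zero, Finset.mul_sum]
      exact Finset.sum_congr rfl fun i _ => by ring
    have hnorm : ((∑ χ ∈ S, w χ * w χ : ℤ) : ℂ) = (p : ℂ) * (form (formR p B) v : ℂ) := by
      refine mul_left_cancel₀ (Nat.cast_ne_zero.2 (Nat.card_pos (α := G)).ne' : (Nat.card G : ℂ) ≠ 0) ?_
      rw [← sum_sum_mul_conj hM, form_formR hM hB, hd, pow_one]
      rw [← Finset.sum_filter_add_sum_filter_not Finset.univ (fun g : G => ¬ p ∣ orderOf g),
        Finset.sum_eq_zero (s := Finset.univ.filter fun g : G => ¬¬ p ∣ orderOf g) fun g hg => by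
          rw [hsing w hwk g (not_not.1 (Finset.mem_filter.1 hg).2), zero_mul], add_zero]
      simp only [← Complex.mul_conj, Finset.mul_sum]
      refine Finset.sum_congr rfl fun y hy => ?_
      rw [hwreg y (Finset.mem_filter.1 hy).2, ← hSdef, map_mul, map_natCast]
      field_simp
    have hww : ∑ χ ∈ S, w χ * w χ = (p : ℤ) * qform (p : ℤ) (e : ℤ) aJ fun i => v i.1 := by
      rw [hsumZ]
      have h1 : ∀ i : ι, w i.1 * w i.1 =
          (p : ℤ) * (w i.1 * v i.1) - ∑ c, t c * (w i.1 * aJ c i) := by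
        intro i
        have h2 : ∑ c, t c * (w i.1 * aJ c i) = w i.1 * ∑ c, t c * aJ c i := by
          rw [Finset.mul_sum]
          exact Finset.sum_congr rfl fun c _ => by ring
        rw [h2]
        linear_combination (w i.1) * hwι i
      rw [Finset.sum_congr rfl fun i _ => h1 i, Finset.sum_sub_distrib, Finset.sum_comm (γ := ι)]
      simp only [← Finset.mul_sum, hworth, mul_zero, Finset.sum_const_zero, sub_zero]
      congr 1
      have h3 : ∑ i : ι, (∑ c, t c * aJ c i) * v i.1 = ∑ c, t c * u c := by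
        simp only [u, Finset.sum_mul, Finset.mul_sum, mul_assoc]
        exact Finset.sum_comm
      have h4 : ∑ c, t c * u c = (p : ℤ) * ∑ c, u c * u c - (e : ℤ) * (T * T) := by
        simp only [ht, sub_mul, Finset.sum_sub_distrib, mul_assoc, ← Finset.mul_sum, ← hT]
      simp only [hwι, sub_mul, Finset.sum_sub_distrib, h3, h4]
      have h5 : ∑ i : ι, (p : ℤ) * v i.1 * v i.1 = (p : ℤ) * ∑ i : ι, v i.1 * v i.1 := by
        rw [Finset.mul_sum]
        exact Finset.sum_congr rfl fun i _ => by ring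
      show _ = (p : ℤ) * _ - (p : ℤ) * ∑ c, u c * u c + (e : ℤ) * (T * T)
      rw [h5]
      ring
    refine Int.cast_injective (α := ℂ) (mul_left_cancel₀ hp0 ?_)
    rw [← hnorm, hww, Int.cast_mul, Int.cast_natCast]
  -- the rank
  have hrank : (blockRank p B : ℤ) = (Fintype.card ι : ℤ) - Fintype.card J := by
    refine mul_left_cancel₀ (Int.natCast_ne_zero.2 hp.ne_zero : (p : ℤ) ≠ 0) ?_
    rw [← sum_qform_single aJ hgramJ hem]
    have h1 : ∀ i : ι, qform (p : ℤ) (e : ℤ) aJ (Pi.single i 1) = formR p B i.1 i.1 := by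
      intro i
      have h2 := hform fun ξ => if ξ = i.1 then 1 else 0
      rw [show (fun j : ι => (if j.1 = i.1 then 1 else 0 : ℤ)) = Pi.single i 1 from funext fun j => by
        rw [Pi.single_apply]; exact if_congr Subtype.ext_iff.symm rfl rfl] at h2
      rw [← h2]
      simp [form]
    simp only [h1]
    apply Int.cast_injective (α := ℂ)
    push_cast
    rw [← hsumι fun χ => (formR p B χ χ : ℂ), blockRank_eq_sum hM hB, Finset.mul_sum]
    exact Finset.sum_congr rfl fun χ hχ => by
      rw [formR_eq hM hB ((Set.Finite.mem_toFinset _).1 hχ) ((Set.Finite.mem_toFinset _).1 hχ),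
        hd, pow_one]
  refine ⟨by omega, fun v => ?_⟩
  rw [hform, hrank]
  exact hq _

end CfsgLib.DefectOne
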