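import Cfsg.Agent.Lib.Blocks.DefectOne.Main
import Cfsg.Agent.Lib.Blocks.QuotientBlocks
import Cfsg.Agent.Lib.OddLocal.FittingHall

/-!
# The regular form of a block over a central subgroup of order `p`

Restrictions to regular elements come from generalized characters of the quotient, so the form of
a block and the form of the block of the quotient take the same values up to a power of `p`.
-/

set_option autoImplicit false

namespace CfsgLib.DefectOne

open Cfsg CfsgLib.Blocks CfsgLib.Blocks.SubForm CfsgLib.Char CfsgLib.CharAction CfsgLib.CycloTrace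
open scoped ComplexConjugate Classical

/-- In a finite nilpotent group the `p'`-part is a homomorphism. -/
theorem exists_pPrime_hom {E : Type*} [Group E] [Finite E] (hE : Group.IsNilpotent E) {p a m k : ℕ}
    (hp : p.Prime) (hmp : ¬ p ∣ m) (hcard : Nat.card E ∣ p ^ a * m) (hk0 : k ≡ 0 [MOD p ^ a]) (hk1 : k ≡ 1 [MOD m]) :
    ∃ f : E →* E, ∀ x, f x = x ^ k := by
  obtain ⟨e⟩ := (Group.isNilpotent_of_finite_tfae (G := E)).out 0 4 |>.mp hE
  have key : ∀ x y : E, (x * y) ^ k = x ^ k * y ^ k := by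
    intro x y
    apply e.symm.injective
    rw [map_pow, map_mul, map_mul, map_pow, map_pow]
    funext q P
    have : Fact (Nat.Prime q) := ⟨Nat.prime_of_mem_primeFactors q.2⟩
    simp only [Pi.pow_apply, Pi.mul_apply]
    set u := e.symm x q P
    set v := e.symm y q P
    obtain ⟨i, hi⟩ := IsPGroup.iff_card.1 P.isPGroup'
    have hdvd : Nat.card P ∣ p ^ a * m :=
      ((P : Subgroup E).card_subgroup_dvd_card).trans hcard
    have hord : ∀ w : P, orderOf w ∣ (q : ℕ) ^ i := fun w => hi ▸ orderOf_dvd_natCard w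
    by_cases hq : (q : ℕ) = p
    · have hd : (q : ℕ) ^ i ∣ k := by
        have hc : ((q : ℕ) ^ i).Coprime m := hq ▸ ((hp.coprime_iff_not_dvd).2 hmp).pow_left i
        exact (hc.dvd_of_dvd_mul_right (hi ▸ hdvd)).trans (Nat.modEq_zero_iff_dvd.1 hk0)
      have hz : ∀ w : P, w ^ k = 1 := fun w => orderOf_dvd_iff_pow_eq_one.1 ((hord w).trans hd)
      rw [hz, hz, hz, one_mul]
    · have hc : ((q : ℕ) ^ i).Coprime (p ^ a) :=
        ((Nat.coprime_primes this.out hp).2 hq).pow _ _
      have hd : (q : ℕ) ^ i ∣ m := hc.dvd_of_dvd_mul_left (hi ▸ hdvd)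
      have hpow : ∀ w : P, w ^ k = w := fun w => by
        conv_rhs => rw [← pow_one w]
        exact pow_eq_pow_iff_modEq.2 ((hk1.of_dvd hd).of_dvd (hord w))
      rw [hpow, hpow, hpow]
  exact ⟨{ toFun := fun x => x ^ k, map_one' := one_pow k, map_mul' := key }, fun x => rfl⟩

variable {C : Type*} [Group C] [Fintype C] {p : ℕ} [Fact p.Prime] {M : Ideal AlgInt} [M.IsPrime]
  (hM : IsPModular p M) {z : C} (hz : orderOf z = p) (hcen : ∀ g : C, g * z = z * g)
  {b : Set (IrrCharacter C)} (hb : IsPBlock M b)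
include hM hz hcen hb

/-- On regular elements a generalized character of the block is a combination of inflated members
of the block. -/
theorem exists_inflate_combination [(Subgroup.zpowers z).Normal] [Fintype (IrrCharacter C)]
    (v : IrrCharacter C → ℤ) :
    ∃ n : IrrCharacter C → ℤ, (∀ η, n η ≠ 0 → η ∈ b ∧
        ∃ θ : IrrCharacter (C ⧸ Subgroup.zpowers z), inflate (Subgroup.zpowers z) θ = η) ∧
      ∀ w : C, ¬ p ∣ orderOf w → ∑ η ∈ (Set.toFinite b).toFinset, (v η : ℂ) * (η : C → ℂ) w =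
        ∑ η ∈ (Set.toFinite b).toFinset, (n η : ℂ) * (η : C → ℂ) w := by
  set B₀ := (Set.toFinite b).toFinset with hB₀
  obtain ⟨m, hm, hmp⟩ := exists_factorization (p := p) (Nat.card_pos (α := C)).ne'
  set a := (Nat.card C).factorization p
  obtain ⟨k, hk0, hk1⟩ := Nat.chineseRemainder
    (((hM.1.coprime_iff_not_dvd).2 hmp).pow_left a : (p ^ a).Coprime m) 0 1
  have hpk : p ∣ k := by
    have hzC : p ∣ Nat.card C := hz ▸ orderOf_dvd_natCard z
    rw [hm] at hzC
    have hapos : a ≠ 0 := fun h => hmp (by simpa [h] using hzC)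
    exact (dvd_pow_self p hapos).trans (Nat.modEq_zero_iff_dvd.1 hk0)
  let f : C → ℂ := ∑ η ∈ B₀, (v η : ℂ) • (η : C → ℂ)
  have hf : IsGeneralizedCharacter C f :=
    IsGen.sum _ _ fun η _ => IsGen.intCast_smul _ (IsGen.of_irr η.2)
  let g : C → ℂ := fun c => f (c ^ k)
  have hg : IsGeneralizedCharacter C g := by
    refine CfsgLib.Brauer.isGeneralizedCharacter_of_elementary (fun c d => ?_) fun E q hq hE => ?_
    · show f _ = f _
      rw [conj_pow]
      exact IsGen.isClassFunction hf _ _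
    · obtain ⟨π, hπ⟩ := exists_pPrime_hom (CfsgLib.Brauer.isNilpotent_of_isElementary hq hE)
        hM.1 hmp (hm ▸ E.card_subgroup_dvd_card) hk0 hk1
      have he : (fun e : E => g e) = fun e : E => (fun e' : E => f e') (π e) := by
        funext e
        simp only [g, hπ, Subgroup.coe_pow]
      rw [he]
      exact IsGen.comp π (IsGen.restrict E hf)
  have hgreg : ∀ w : C, ¬ p ∣ orderOf w → g w = f w := by
    intro w hw
    have hd : orderOf w ∣ m := by
      have h := orderOf_dvd_natCard w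
      rw [hm] at h
      exact ((Nat.Coprime.pow_right a ((hM.1.coprime_iff_not_dvd).2 hw).symm)).dvd_of_dvd_mul_left h
    show f (w ^ k) = f w
    congr 1
    conv_rhs => rw [← pow_one w]
    exact pow_eq_pow_iff_modEq.2 (hk1.of_dvd hd)
  have hgz : ∀ c, g (z * c) = g c := fun c => by
    show f ((z * c) ^ k) = f (c ^ k)
    rw [(hcen c).symm |> fun h => (show Commute z c from h).mul_pow,
      orderOf_dvd_iff_pow_eq_one.1 (hz.symm ▸ hpk), one_mul]
  obtain ⟨n, hn⟩ := IsGen.exists_sum hg
  have hcoef : ∀ η : IrrCharacter C, classInner g (η : C → ℂ) = (n η : ℂ) := fun η => by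
    rw [hn, classInner_sum_irr]
  refine ⟨fun η => if η ∈ b then n η else 0, fun η hη => ?_, fun w hw => ?_⟩
  · simp only [ne_eq, ite_eq_right_iff, not_forall, exists_prop] at hη
    refine ⟨hη.1, exists_inflate_eq _ η fun u hu => ?_⟩
    have h1 := classInner_translate g η (z := z) hcen
    simp only [hgz, hcoef] at h1
    have h2 : (η : C → ℂ) z = (η : C → ℂ) 1 := by
      have h3 := (mul_eq_right₀ (Int.cast_ne_zero.2 hη.2)).1 h1.symm
      rwa [div_eq_one_iff_eq (Char.IsIrr.apply_one_ne_zero η.2)] at h3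
    obtain ⟨i, rfl⟩ := (Submonoid.mem_powers_iff _ _).1 (mem_powers_iff_mem_zpowers.2 hu)
    induction i with
    | zero => rw [pow_zero]
    | succ i ih =>
      have h4 := apply_central_mul η hcen (z ^ i)
      rw [← pow_succ', h2, ih (pow_mem (Subgroup.mem_zpowers z) i)] at h4
      exact mul_right_cancel₀ (Char.IsIrr.apply_one_ne_zero η.2) h4
  · set T := (Finset.univ : Finset (IrrCharacter C))
    have hgw : ∀ y : C, ¬ p ∣ orderOf y → ∑ η ∈ B₀, (v η : ℂ) * (η : C → ℂ) y =
        ∑ η ∈ B₀, (n η : ℂ) * (η : C → ℂ) y + ∑ η ∈ B₀ᶜ, (n η : ℂ) * (η : C → ℂ) y := by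
      intro y hy
      rw [Finset.sum_add_sum_compl]
      have h := hgreg y hy
      rw [hn] at h
      simpa [f] using h.symm
    set r : C → ℂ := fun y => ∑ η ∈ B₀, ((v η - n η : ℤ) : ℂ) * (η : C → ℂ) y with hr
    set R := Finset.univ.filter (fun y : C => ¬ p ∣ orderOf y)
    have hr' : ∀ y ∈ R, r y = ∑ η ∈ B₀ᶜ, (n η : ℂ) * (η : C → ℂ) y := fun y hy => by
      have h := hgw y (Finset.mem_filter.1 hy).2
      simp only [hr, Int.cast_sub, sub_mul, Finset.sum_sub_distrib]
      rw [h]
      ring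
    have hsq : ∑ y ∈ R, (Complex.normSq (r y) : ℂ) = 0 := by
      rw [Finset.sum_congr rfl (g := fun y => r y *
        conj (∑ η ∈ B₀ᶜ, (n η : ℂ) * (η : C → ℂ) y)) fun y hy => by
          rw [← Complex.mul_conj, ← hr' y hy]]
      simp only [hr, map_sum, Finset.sum_mul_sum]
      rw [Finset.sum_comm]
      refine Finset.sum_eq_zero fun η hη => ?_
      rw [Finset.sum_comm]
      refine Finset.sum_eq_zero fun η' hη' => ?_
      have hne : ¬ SameBlock M (η : C → ℂ) (η' : C → ℂ) := fun hs => by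
        refine Finset.mem_compl.1 hη' ((Set.Finite.mem_toFinset _).2 ?_)
        rw [IsPBlock.eq_blockOf hb ((Set.Finite.mem_toFinset _).1 hη)]
        exact hs
      rw [Finset.sum_congr rfl (g := fun y => (((v η - n η : ℤ) : ℂ) * (n η' : ℂ)) *
        ((η : C → ℂ) y * (η' : C → ℂ) y⁻¹)) fun y _ => by
          rw [map_mul, map_intCast, Char.IsIrr.map_inv η'.2]; ring,
        ← Finset.mul_sum, sum_regular_eq_zero hM hne, mul_zero]
    rw [← Complex.ofReal_sum, Complex.ofReal_eq_zero,
      Finset.sum_eq_zero_iff_of_nonneg fun _ _ => Complex.normSq_nonneg _] at hsq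
    have h0 := Complex.normSq_eq_zero.1 (hsq w (Finset.mem_filter.2 ⟨Finset.mem_univ _, hw⟩))
    simp only [hr, Int.cast_sub, sub_mul, Finset.sum_sub_distrib, sub_eq_zero] at h0
    rw [h0]
    exact Finset.sum_congr rfl fun η hη => by
      simp [show η ∈ b from (Set.Finite.mem_toFinset _).1 hη]

omit hcen in
/-- The regular elements of the quotient are the images of the regular elements. -/
theorem sum_regular_quotient [(Subgroup.zpowers z).Normal] [Fintype (C ⧸ Subgroup.zpowers z)]
    (hcen : ∀ g : C, g * z = z * g) (F : C ⧸ Subgroup.zpowers z → ℂ) :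
    ∑ w ∈ Finset.univ.filter (fun w : C => ¬ p ∣ orderOf w), F w =
      ∑ q ∈ Finset.univ.filter (fun q : C ⧸ Subgroup.zpowers z => ¬ p ∣ orderOf q), F q := by
  have hZ : IsPGroup p (Subgroup.zpowers z) :=
    IsPGroup.of_card (n := 1) (by rw [Nat.card_zpowers, hz, pow_one])
  have hC : (Subgroup.centralizer (Subgroup.zpowers z : Set C)).index = p ^ 0 := by
    rw [pow_zero, Subgroup.index_eq_one, eq_top_iff]
    intro g _
    refine Subgroup.mem_centralizer_iff.2 fun u hu => ?_
    obtain ⟨i, rfl⟩ := Subgroup.mem_zpowers_iff.1 hu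
    exact ((show Commute g z from hcen g).zpow_right i).symm.eq
  refine Finset.sum_bij (fun w _ => (w : C ⧸ Subgroup.zpowers z)) ?_ ?_ ?_ fun _ _ => rfl
  · intro w hw
    exact Finset.mem_filter.2 ⟨Finset.mem_univ _, fun h => (Finset.mem_filter.1 hw).2
      (h.trans (orderOf_map_dvd (QuotientGroup.mk' _) w))⟩
  · intro w hw w' hw' h
    have h1 := eq_one_of_regular_mul (p := p) _ hZ hC (QuotientGroup.eq.1 h)
      (Finset.mem_filter.1 hw).2 (by rw [mul_inv_cancel_left]; exact (Finset.mem_filter.1 hw').2)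
    exact (inv_mul_eq_one.1 h1)
  · intro q hq
    obtain ⟨g, rfl⟩ := QuotientGroup.mk_surjective q
    obtain ⟨u, y, hy, hc, ⟨i, hi⟩, hyo⟩ := exists_pPart hM.1 g
    refine ⟨y, Finset.mem_filter.2 ⟨Finset.mem_univ _, hyo⟩, ?_⟩
    have hu : (u : C ⧸ Subgroup.zpowers z) = 1 := by
      rw [← orderOf_eq_one_iff]
      obtain ⟨l, -, hl⟩ := (Nat.dvd_prime_pow hM.1).1
        (hi ▸ orderOf_map_dvd (QuotientGroup.mk' (Subgroup.zpowers z)) u)
      rcases Nat.eq_zero_or_pos l with rfl | h0
      · exact hl.trans (pow_zero p)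
      exfalso
      refine (Finset.mem_filter.1 hq).2 ?_
      have hl' : orderOf (u : C ⧸ Subgroup.zpowers z) = p ^ l := hl
      have hcq : Commute (u : C ⧸ Subgroup.zpowers z) (y : C ⧸ Subgroup.zpowers z) :=
        hc.map (QuotientGroup.mk' (Subgroup.zpowers z))
      rw [← hy, QuotientGroup.mk_mul, hcq.orderOf_mul_eq_mul_orderOf_of_coprime, hl']
      · exact (dvd_pow_self p h0.ne').mul_right _
      · rw [hl']
        exact Nat.Coprime.coprime_dvd_right (orderOf_map_dvd (QuotientGroup.mk' _) y)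
          (((Nat.Prime.coprime_iff_not_dvd hM.1).2 hyo).pow_left l)
    rw [← hy, QuotientGroup.mk_mul, hu, one_mul]

/-- A block over a central element of order `p` has the rank and the form of a block of the
quotient of smaller defect. -/
theorem exists_quotient_form [(Subgroup.zpowers z).Normal] [Fintype (C ⧸ Subgroup.zpowers z)]
    [Fintype (IrrCharacter C)] [Fintype (IrrCharacter (C ⧸ Subgroup.zpowers z))] :
    ∃ bq : Set (IrrCharacter (C ⧸ Subgroup.zpowers z)), IsPBlock M bq ∧
      blockDefect p bq + 1 ≤ blockDefect p b ∧ blockRank p b ≤ blockRank p bq ∧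
      ∀ v, ∃ v', (form (formR p b) v : ℤ) =
        (p : ℤ) ^ (blockDefect p b - 1 - blockDefect p bq) * form (formR p bq) v' := by
  have hZ : IsPGroup p (Subgroup.zpowers z) := IsPGroup.of_card (n := 1) (by rw [Nat.card_zpowers, hz, pow_one])
  have hC : (Subgroup.centralizer ((Subgroup.zpowers z) : Set C)).index = p ^ 0 := by
    rw [pow_zero, Subgroup.index_eq_one, eq_top_iff]
    intro g _
    refine Subgroup.mem_centralizer_iff.2 fun u hu => ?_
    obtain ⟨i, rfl⟩ := Subgroup.mem_zpowers_iff.1 hu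
    exact ((show Commute g z from hcen g).zpow_right i).symm.eq
  obtain ⟨θ₀, hθ₀⟩ := exists_inflate_mem hM (Subgroup.zpowers z) hZ hC hb
  set bq := blockOf M (θ₀ : C ⧸ (Subgroup.zpowers z) → ℂ) with hbqdef
  have hbq : IsPBlock M bq := isPBlock_blockOf θ₀
  have hiff : ∀ θ, θ ∈ bq ↔ inflate (Subgroup.zpowers z) θ ∈ b := by
    intro θ
    rw [IsPBlock.eq_blockOf hb hθ₀]
    exact ⟨fun h => sameBlock_inflate (Subgroup.zpowers z) h, fun h => sameBlock_of_inflate_of_pGroup hM (Subgroup.zpowers z) hZ hC h⟩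
  have hcardC : Nat.card C = Nat.card (C ⧸ (Subgroup.zpowers z)) * p := by
    rw [Subgroup.card_eq_card_quotient_mul_card_subgroup (Subgroup.zpowers z), Nat.card_zpowers, hz]
  -- defects
  have hdef : blockDefect p bq + 1 ≤ blockDefect p b := by
    obtain ⟨θ, hθ, hθmin⟩ := exists_minDeg p (B := bq) ⟨θ₀, mem_blockOf_self θ₀⟩
    have h1 := minDeg_le (p := p) ((hiff θ).1 hθ)
    have h2 : degVal p (inflate (Subgroup.zpowers z) θ : C → ℂ) = degVal p (θ : C ⧸ (Subgroup.zpowers z) → ℂ) :=
      congrArg (fun n : ℕ => n.factorization p) (charDegree_eq (χ := inflate (Subgroup.zpowers z) θ)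
        (by rw [inflate_apply, QuotientGroup.mk_one, apply_one_eq_charDegree]))
    have h3 := degVal_le (p := p) θ
    have h4 : (Nat.card C).factorization p = (Nat.card (C ⧸ (Subgroup.zpowers z))).factorization p + 1 := by
      rw [hcardC, Nat.factorization_mul Nat.card_pos.ne' hM.1.ne_zero, Finsupp.add_apply,
        hM.1.factorization_self]
    rw [blockDefect_eq_sub, blockDefect_eq_sub]
    omega
  refine ⟨bq, hbq, hdef, ?_, fun v => ?_⟩
  · -- the span of the regular restrictions
    let L : (C ⧸ (Subgroup.zpowers z) → ℂ) →ₗ[ℂ] (C → ℂ) :=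
      { toFun := fun F c => if p ∣ orderOf c then 0 else F c
        map_add' := fun F F' => by funext c; by_cases h : p ∣ orderOf c <;> simp [h]
        map_smul' := fun r F => by funext c; by_cases h : p ∣ orderOf c <;> simp [h] }
    have hsub : Submodule.span ℂ ((fun χ : IrrCharacter C => pRegularPart p (χ : C → ℂ)) '' b) ≤
        (Submodule.span ℂ ((fun χ : IrrCharacter (C ⧸ (Subgroup.zpowers z)) => pRegularPart p (χ : C ⧸ (Subgroup.zpowers z) → ℂ)) '' bq)).map L := by
      rw [Submodule.span_le]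
      rintro _ ⟨η, hη, rfl⟩
      obtain ⟨n, hn, hval⟩ := exists_inflate_combination hM hz hcen hb
        (fun ξ => if ξ = η then 1 else 0)
      have key : pRegularPart p (η : C → ℂ) = ∑ ξ ∈ (Set.toFinite b).toFinset,
          (n ξ : ℂ) • regCut p (ξ : C → ℂ) := by
        funext c
        simp only [pRegularPart_eq_regCut, Finset.sum_apply, Pi.smul_apply, smul_eq_mul, regCut]
        by_cases hc : p ∣ orderOf c
        · simp [hc]
        · simp only [if_neg hc, ← hval c hc]
          simp [hη]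
      rw [SetLike.mem_coe]
      show pRegularPart p (η : C → ℂ) ∈ _
      rw [key]
      refine Submodule.sum_mem _ fun ξ hξ => ?_
      by_cases hnξ : n ξ = 0
      · simp [hnξ]
      obtain ⟨θ, rfl⟩ := (hn ξ hnξ).2
      refine Submodule.smul_mem _ _ ⟨pRegularPart p (θ : C ⧸ (Subgroup.zpowers z) → ℂ),
        Submodule.subset_span ⟨θ, (hiff θ).2 (hn _ hnξ).1, rfl⟩, ?_⟩
      funext c
      show (if p ∣ orderOf c then (0 : ℂ) else pRegularPart p (θ : C ⧸ (Subgroup.zpowers z) → ℂ) (c : C ⧸ (Subgroup.zpowers z))) = _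
      by_cases hc : p ∣ orderOf c
      · simp [regCut, hc]
      · rw [if_neg hc, pRegularPart_eq_regCut, regCut, regCut, if_neg hc, inflate_apply,
          if_neg fun h => hc (h.trans (orderOf_map_dvd (QuotientGroup.mk' (Subgroup.zpowers z)) c))]
    exact (Submodule.finrank_mono hsub).trans (Submodule.finrank_map_le _ _)
  · obtain ⟨n, hn, hval⟩ := exists_inflate_combination hM hz hcen hb v
    refine ⟨fun θ => n (inflate (Subgroup.zpowers z) θ), Int.cast_injective (α := ℂ) ?_⟩
    rw [Int.cast_mul, Int.cast_pow, Int.cast_natCast, form_formR hM hb, form_formR hM hbq (fun θ : IrrCharacter (C ⧸ (Subgroup.zpowers z)) => n (inflate (Subgroup.zpowers z) θ))]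
    have hF : ∀ c : C, ¬ p ∣ orderOf c →
        ∑ η ∈ (Set.toFinite b).toFinset, (v η : ℂ) * (η : C → ℂ) c =
        ∑ θ ∈ (Set.toFinite bq).toFinset, (n (inflate (Subgroup.zpowers z) θ) : ℂ) * (θ : C ⧸ (Subgroup.zpowers z) → ℂ) (c : C ⧸ (Subgroup.zpowers z)) := by
      intro c hc
      rw [hval c hc, ← Finset.sum_subset (s₁ := (Set.toFinite bq).toFinset.image (inflate (Subgroup.zpowers z)))
        (s₂ := (Set.toFinite b).toFinset) ?_ ?_, Finset.sum_image fun x _ y _ h => inflate_injective (Subgroup.zpowers z) h]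
      · rfl
      · intro ξ hξ
        obtain ⟨θ, hθ, rfl⟩ := Finset.mem_image.1 hξ
        exact (Set.Finite.mem_toFinset _).2 ((hiff θ).1 ((Set.Finite.mem_toFinset _).1 hθ))
      · intro ξ _ hξ
        by_contra hne
        have hn0 : n ξ ≠ 0 := fun h => hne (by rw [h, Int.cast_zero, zero_mul])
        obtain ⟨θ, rfl⟩ := (hn ξ hn0).2
        exact hξ (Finset.mem_image.2
          ⟨θ, (Set.Finite.mem_toFinset _).2 ((hiff θ).2 (hn _ hn0).1), rfl⟩)
    rw [Finset.sum_congr rfl (g := fun c : C => ((Complex.normSq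
      (∑ θ ∈ (Set.toFinite bq).toFinset, (n (inflate (Subgroup.zpowers z) θ) : ℂ) * (θ : C ⧸ (Subgroup.zpowers z) → ℂ) (c : C ⧸ (Subgroup.zpowers z))) : ℝ) : ℂ))
      fun c hc => by rw [hF c (Finset.mem_filter.1 hc).2],
      sum_regular_quotient hM hz hb hcen (fun q => ((Complex.normSq
      (∑ θ ∈ (Set.toFinite bq).toFinset, (n (inflate (Subgroup.zpowers z) θ) : ℂ) * (θ : C ⧸ (Subgroup.zpowers z) → ℂ) q) : ℝ) : ℂ))]
    obtain ⟨t, ht⟩ : ∃ t, blockDefect p b = blockDefect p bq + 1 + t :=
      ⟨_, (Nat.add_sub_cancel' hdef).symm⟩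
    rw [ht, show blockDefect p bq + 1 + t - 1 - blockDefect p bq = t by omega, hcardC]
    push_cast
    have hp0 : (p : ℂ) ≠ 0 := Nat.cast_ne_zero.2 hM.1.ne_zero
    rw [pow_add, pow_add, pow_one]
    field_simp

end CfsgLib.DefectOne
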